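import Mathlib
import Cfsg.Agent.Lib.Char.Decomp
import Cfsg.Agent.Lib.Char.Monomial
import Cfsg.Agent.Lib.Char.Central

/-!
# Joint eigenbases
-/

set_option autoImplicit false
set_option linter.unusedSectionVars false

namespace Cfsg.Agent.Lib.LinGroup

open Module Cfsg.Agent.Lib.Char.Decomp

universe u v

variable {K : Type u} [Group K] [Finite K]

/-- A representation all of whose irreducible constituents are one-dimensional has a joint
eigenbasis (bounded version). -/
theorem exists_joint_eigenbasis (d : ℕ)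
    (hd : ∀ (W : Type v) [AddCommGroup W] [Module ℂ W] [FiniteDimensional ℂ W]
      (τ : Representation ℂ K W), τ.IsIrreducible → finrank ℂ W ≤ d → finrank ℂ W = 1)
    (V : Type v) [AddCommGroup V] [Module ℂ V] [FiniteDimensional ℂ V]
    (ρ : Representation ℂ K V) (hV : finrank ℂ V ≤ d) :
    ∃ (b : Basis (Fin (finrank ℂ V)) ℂ V) (μ : Fin (finrank ℂ V) → K → ℂ),
      ∀ i k, ρ k (b i) = μ i k • b i := by
  classical
  -- free index version
  have key : ∀ (V : Type v) [AddCommGroup V] [Module ℂ V] [FiniteDimensional ℂ V]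
      (ρ : Representation ℂ K V), finrank ℂ V ≤ d →
      ∃ (m : ℕ) (b : Basis (Fin m) ℂ V) (μ : Fin m → K → ℂ), ∀ i k, ρ k (b i) = μ i k • b i := by
    intro V _ _ _ ρ
    refine rep_induction (P := fun V _ _ ρ => finrank ℂ V ≤ d →
      ∃ (m : ℕ) (b : Basis (Fin m) ℂ V) (μ : Fin m → K → ℂ), ∀ i k, ρ k (b i) = μ i k • b i)
      ?_ ?_ ?_ V ρ
    · intro W _ _ _ τ hs _
      refine ⟨finrank ℂ W, finBasis ℂ W, fun _ _ => 0, ?_⟩
      intro i k
      exact Subsingleton.elim _ _
    · intro W _ _ _ τ hτ hle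
      have h1 := hd W τ hτ hle
      refine ⟨finrank ℂ W, finBasis ℂ W, ?_⟩
      have hne : ∀ i, (finBasis ℂ W) i ≠ 0 := fun i => (finBasis ℂ W).ne_zero i
      have hc : ∀ (i : Fin (finrank ℂ W)) (k : K), ∃ c : ℂ, c • (finBasis ℂ W) i =
          τ k ((finBasis ℂ W) i) := by
        intro i k
        exact (finrank_eq_one_iff_of_nonzero' _ (hne i)).mp h1 _
      choose μ hμ using hc
      exact ⟨μ, fun i k => (hμ i k).symm⟩
    · intro W _ _ _ τ A B hAB hA hB hle
      have h1 := finrank_add_of_isCompl hAB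
      have hAle : finrank ℂ A.toSubmodule ≤ d := by omega
      have hBle : finrank ℂ B.toSubmodule ≤ d := by omega
      obtain ⟨m₁, b₁, μ₁, h₁⟩ := hA hAle
      obtain ⟨m₂, b₂, μ₂, h₂⟩ := hB hBle
      let e : (A.toSubmodule × B.toSubmodule) ≃ₗ[ℂ] W :=
        Submodule.prodEquivOfIsCompl _ _ (isCompl_toSubmodule hAB)
      let bb : Basis (Fin m₁ ⊕ Fin m₂) ℂ W := (b₁.prod b₂).map e
      refine ⟨m₁ + m₂, bb.reindex finSumFinEquiv,
        fun i k => Sum.elim (fun j => μ₁ j k) (fun j => μ₂ j k) (finSumFinEquiv.symm i), ?_⟩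
      intro i k
      obtain ⟨j, rfl⟩ := finSumFinEquiv.surjective i
      have hbb : (bb.reindex finSumFinEquiv) (finSumFinEquiv j) = bb j := by
        simp [Basis.reindex_apply]
      rw [hbb]
      rcases j with j | j
      · have hval : bb (Sum.inl j) = ((b₁ j : A.toSubmodule) : W) := by
          simp [bb, e]
        have h2 := h₁ j k
        have h3 := congrArg (Subtype.val) h2
        simp only [Equiv.symm_apply_apply, Sum.elim_inl]
        rw [hval]
        exact h3
      · have hval : bb (Sum.inr j) = ((b₂ j : B.toSubmodule) : W) := by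
          simp [bb, e]
        have h2 := h₂ j k
        have h3 := congrArg (Subtype.val) h2
        simp only [Equiv.symm_apply_apply, Sum.elim_inr]
        rw [hval]
        exact h3
  obtain ⟨m, b, μ, h⟩ := key V ρ hV
  have hm : m = finrank ℂ V := by
    rw [finrank_eq_card_basis b]
    simp
  subst hm
  exact ⟨b, μ, h⟩

/-- Abelian groups: joint eigenbases. -/
theorem exists_joint_eigenbasis_of_comm (hK : ∀ a b : K, a * b = b * a)
    (V : Type v) [AddCommGroup V] [Module ℂ V] [FiniteDimensional ℂ V]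
    (ρ : Representation ℂ K V) :
    ∃ (b : Basis (Fin (finrank ℂ V)) ℂ V) (μ : Fin (finrank ℂ V) → K → ℂ),
      ∀ i k, ρ k (b i) = μ i k • b i := by
  refine exists_joint_eigenbasis (finrank ℂ V) ?_ V ρ le_rfl
  intro W _ _ _ τ hτ _
  refine Cfsg.Agent.Lib.Char.Monomial.finrank_eq_one_of_commuting τ hτ ?_
  intro a b
  rw [← map_mul, ← map_mul, hK]

/-- Groups of prime power order with a representation of small dimension: joint eigenbases. -/
theorem exists_joint_eigenbasis_of_isPGroup {q : ℕ} (hq : q.Prime) (hK : IsPGroup q K)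
    (V : Type v) [AddCommGroup V] [Module ℂ V] [FiniteDimensional ℂ V]
    (ρ : Representation ℂ K V) (hV : finrank ℂ V < q) :
    ∃ (b : Basis (Fin (finrank ℂ V)) ℂ V) (μ : Fin (finrank ℂ V) → K → ℂ),
      ∀ i k, ρ k (b i) = μ i k • b i := by
  haveI : Fact q.Prime := ⟨hq⟩
  refine exists_joint_eigenbasis (finrank ℂ V) ?_ V ρ le_rfl
  intro W _ _ _ τ hτ hle
  have hdvd : finrank ℂ W ∣ Nat.card K := by
    have := hτ
    exact Cfsg.Agent.Lib.Char.Central.finrank_dvd_card τ
  obtain ⟨n, hn⟩ := IsPGroup.iff_card.mp hK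
  rw [hn] at hdvd
  obtain ⟨j, _, hj⟩ := (Nat.dvd_prime_pow hq).mp hdvd
  rcases j with _ | j
  · simpa using hj
  · exfalso
    have h1 : q ≤ finrank ℂ W := by
      rw [hj, pow_succ]
      exact Nat.le_mul_of_pos_left _ (pow_pos hq.pos _)
    omega

/-- Any eigenvalue of an operator diagonal in a basis is a diagonal entry. -/
theorem exists_eq_of_mem_spectrum {V : Type*} [AddCommGroup V] [Module ℂ V] [FiniteDimensional ℂ V]
    {ι : Type*} [Fintype ι] (T : End ℂ V) (b : Basis ι ℂ V) (μ : ι → ℂ)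
    (h : ∀ i, T (b i) = μ i • b i) {c : ℂ} (hc : c ∈ spectrum ℂ T) : ∃ i, μ i = c := by
  classical
  have hev : T.HasEigenvalue c := Module.End.hasEigenvalue_iff_mem_spectrum.mpr hc
  obtain ⟨v, hv⟩ := hev.exists_hasEigenvector
  have hv1 : T v = c • v := hv.apply_eq_smul
  have hv0 : v ≠ 0 := hv.2
  have hrepr : ∃ i, b.repr v i ≠ 0 := by
    by_contra hcon
    push Not at hcon
    apply hv0
    have : b.repr v = 0 := by
      ext i
      simpa using hcon i
    simpa using this
  obtain ⟨i, hi⟩ := hrepr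
  refine ⟨i, ?_⟩
  have hT : T v = ∑ j, b.repr v j • (μ j • b j) := by
    conv_lhs => rw [← b.sum_repr v, map_sum]
    refine Finset.sum_congr rfl fun j _ => ?_
    rw [map_smul, h]
  have hco : b.repr (T v) i = b.repr v i * μ i := by
    rw [hT, map_sum]
    simp only [map_smul, Finsupp.coe_finset_sum, Finset.sum_apply, Finsupp.smul_apply,
      Basis.repr_self, smul_eq_mul]
    rw [Finset.sum_eq_single i]
    · simp
    · intro j _ hj
      simp [Finsupp.single_apply, hj]
    · simp
  rw [hv1, map_smul, Finsupp.smul_apply, smul_eq_mul] at hco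
  have : (c - μ i) * b.repr v i = 0 := by
    rw [sub_mul, hco]
    ring
  rcases mul_eq_zero.mp this with h0 | h0
  · exact (sub_eq_zero.mp h0).symm
  · exact absurd h0 hi

end Cfsg.Agent.Lib.LinGroup
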