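import Mathlib
import Cfsg.Agent.Lib.LinGroup.Joint
import Cfsg.Agent.Lib.OddChar.GaloisConj

/-!
# Representation-theoretic input for Blichfeldt's abelian Hall subgroups
-/

set_option autoImplicit false
set_option linter.unusedSectionVars false

namespace Cfsg.Agent.Lib.LinGroup

open Module Cfsg.Agent.Lib.Char.Decomp Cfsg.Agent.Lib.Char.Ortho Cfsg.Agent.Lib.Char.Basic

universe u v

/-- A map with all periods powers of a prime `r` on a set of fewer than `r` points fixes every
point. -/
theorem fixed_of_card_lt {X : Type*} (f : X → X) (S : Finset X) (hS : ∀ x ∈ S, f x ∈ S)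
    {r k : ℕ} (hr : r.Prime) (hcard : S.card < r) (hper : ∀ x ∈ S, f^[r ^ k] x = x) :
    ∀ x ∈ S, f x = x := by
  classical
  intro x hx
  set m := Function.minimalPeriod f x with hm
  have hdvd : m ∣ r ^ k := (Function.IsPeriodicPt.minimalPeriod_dvd (hper x hx))
  have hSmem : ∀ a : ℕ, f^[a] x ∈ S := by
    intro a
    induction a with
    | zero => simpa using hx
    | succ a ih =>
      rw [Function.iterate_succ_apply']
      exact hS _ ih
  have hmle : m ≤ S.card := by
    have hinj := Function.iterate_injOn_Iio_minimalPeriod (f := f) (x := x)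
    have : (Finset.range m).card ≤ S.card := by
      refine Finset.card_le_card_of_injOn (fun a => f^[a] x) (fun a _ => hSmem a) ?_
      intro a ha b hb hab
      exact hinj (by simpa using ha) (by simpa using hb) hab
    simpa using this
  obtain ⟨j, _, hj⟩ := (Nat.dvd_prime_pow hr).mp hdvd
  rcases j with _ | j
  · rw [pow_zero] at hj
    have : Function.IsFixedPt f x := Function.minimalPeriod_eq_one_iff_isFixedPt.mp hj
    exact this
  · exfalso
    have h1 : r ≤ m := by
      rw [hj, pow_succ]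
      exact Nat.le_mul_of_pos_left _ (pow_pos hr.pos _)
    omega

section Rep

variable {V : Type v} [AddCommGroup V] [Module ℂ V] [FiniteDimensional ℂ V]

/-- A vector which is an eigenvector of `T` with `T` diagonal: every nonzero coordinate of the
vector has the eigenvalue on the diagonal. -/
theorem eq_of_repr_ne_zero {ι : Type*} [Fintype ι] (T : End ℂ V) (b : Basis ι ℂ V) (μ : ι → ℂ)
    (h : ∀ i, T (b i) = μ i • b i) {c : ℂ} {v : V} (hv : T v = c • v) {i : ι}
    (hi : b.repr v i ≠ 0) : μ i = c := by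
  classical
  have hT : T v = ∑ j, b.repr v j • (μ j • b j) := by
    conv_lhs => rw [← b.sum_repr v, map_sum]
    refine Finset.sum_congr rfl fun j _ => ?_
    rw [map_smul, h]
  have hco : b.repr (T v) i = b.repr v i * μ i := by
    rw [hT, map_sum]
    simp only [map_smul, Finsupp.coe_finsetSum, Finset.sum_apply, Finsupp.smul_apply,
      Basis.repr_self, smul_eq_mul]
    rw [Finset.sum_eq_single i]
    · simp
    · intro j _ hj
      simp [Finsupp.single_apply, hj]
    · simp
  rw [hv, map_smul, Finsupp.smul_apply, smul_eq_mul] at hco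
  have : (c - μ i) * b.repr v i = 0 := by
    rw [sub_mul, hco]
    ring
  rcases mul_eq_zero.mp this with h0 | h0
  · exact (sub_eq_zero.mp h0).symm
  · exact absurd h0 hi

variable {G : Type u} [Group G] [Finite G]

/-- Two elements acting by commuting diagonal operators in the same basis commute, if the
representation is faithful. -/
theorem comm_of_isPGroup (ρ : Representation ℂ G V) (hf : ∀ g, ρ g = 1 → g = 1)
    {q : ℕ} (hq : q.Prime) (hV : finrank ℂ V < q) (K : Subgroup G) (hK : IsPGroup q K) :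
    ∀ x ∈ K, ∀ y ∈ K, x * y = y * x := by
  obtain ⟨b, μ, hμ⟩ := exists_joint_eigenbasis_of_isPGroup hq hK V (ρ.comp K.subtype) hV
  intro x hx y hy
  have h1 : ρ (x * y * (y * x)⁻¹) = 1 := by
    have : ρ (x * y) = ρ (y * x) := by
      refine b.ext fun i => ?_
      have hx1 := hμ i ⟨x, hx⟩
      have hy1 := hμ i ⟨y, hy⟩
      simp only [MonoidHom.coe_comp, Function.comp_apply, Subgroup.coe_subtype] at hx1 hy1
      rw [map_mul, map_mul, Module.End.mul_apply, Module.End.mul_apply, hx1, hy1, map_smul, map_smul,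
        hx1, hy1, smul_smul, smul_smul, mul_comm]
    rw [map_mul, this, ← map_mul, mul_inv_cancel, map_one]
  have h2 := hf _ h1
  exact mul_inv_eq_one.mp h2

/-- An element of order a power of `r`, with `r` bigger than the degree, centralizes every
abelian subgroup it normalizes. -/
theorem commute_of_normalizes (ρ : Representation ℂ G V) (hf : ∀ g, ρ g = 1 → g = 1)
    {r k : ℕ} (hr : r.Prime) (hV : finrank ℂ V < r) (B : Subgroup G)
    (hB : ∀ x ∈ B, ∀ y ∈ B, x * y = y * x) (t : G) (ht : t ^ (r ^ k) = 1)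
    (hN : ∀ b ∈ B, t * b * t⁻¹ ∈ B) : ∀ b ∈ B, t * b = b * t := by
  classical
  have hBc : ∀ a b : B, a * b = b * a := fun a b => Subtype.ext (hB a a.2 b b.2)
  obtain ⟨b, μ, hμ⟩ := exists_joint_eigenbasis_of_comm hBc V (ρ.comp B.subtype)
  have hμ' : ∀ i (x : B), ρ (x : G) (b i) = μ i x • b i := fun i x => hμ i x
  let τ : B → B := fun x => ⟨t * x * t⁻¹, hN x x.2⟩
  let f : (B → ℂ) → (B → ℂ) := fun w => w ∘ τ
  have hiter : ∀ (m : ℕ) (x : B), ((τ^[m] x : B) : G) = t ^ m * x * t⁻¹ ^ m := by
    intro m x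
    induction m with
    | zero => simp
    | succ m ih =>
      rw [Function.iterate_succ_apply']
      change t * ((τ^[m] x : B) : G) * t⁻¹ = _
      rw [ih]
      simp only [pow_succ']
      group
  have hτid : ∀ x : B, τ^[r ^ k] x = x := by
    intro x
    apply Subtype.ext
    rw [hiter, inv_pow, ht]
    simp
  have hfiter : ∀ (m : ℕ) (w : B → ℂ), f^[m] w = w ∘ τ^[m] := by
    intro m w
    induction m with
    | zero => rfl
    | succ m ih =>
      rw [Function.iterate_succ_apply', ih, Function.iterate_succ]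
      rfl
  have hmaps : ∀ i, ∃ j, f (μ i) = μ j := by
    intro i
    let v : V := ρ t⁻¹ (b i)
    have hv0 : v ≠ 0 := by
      intro h0
      have h1 : ρ t v = b i := by
        simp only [v]
        rw [← Module.End.mul_apply, ← map_mul, mul_inv_cancel, map_one]
        rfl
      rw [h0, map_zero] at h1
      exact b.ne_zero i h1.symm
    have hev : ∀ x : B, ρ (x : G) v = (μ i (τ x)) • v := by
      intro x
      have h1 : (x : G) * t⁻¹ = t⁻¹ * ((τ x : B) : G) := by
        change (x : G) * t⁻¹ = t⁻¹ * (t * x * t⁻¹)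
        group
      simp only [v]
      rw [← Module.End.mul_apply, ← map_mul, h1, map_mul, Module.End.mul_apply, hμ', map_smul]
    have hrepr : ∃ j, b.repr v j ≠ 0 := by
      by_contra hcon
      push Not at hcon
      apply hv0
      have : b.repr v = 0 := by
        ext j
        simpa using hcon j
      simpa using this
    obtain ⟨j, hj⟩ := hrepr
    refine ⟨j, ?_⟩
    funext x
    have := eq_of_repr_ne_zero (ρ (x : G)) b (fun l => μ l x) (fun l => hμ' l x) (hev x) hj
    exact this.symm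
  let S : Finset (B → ℂ) := Finset.image μ Finset.univ
  have hSmem : ∀ w ∈ S, ∃ i, w = μ i := by
    intro w hw
    obtain ⟨i, _, rfl⟩ := Finset.mem_image.mp hw
    exact ⟨i, rfl⟩
  have hScard : S.card < r := by
    refine lt_of_le_of_lt Finset.card_image_le ?_
    simpa using hV
  have hfix := fixed_of_card_lt (k := k) f S
    (by
      intro w hw
      obtain ⟨i, rfl⟩ := hSmem w hw
      obtain ⟨j, hj⟩ := hmaps i
      rw [hj]
      exact Finset.mem_image_of_mem _ (Finset.mem_univ _))
    hr hScard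
    (by
      intro w hw
      rw [hfiter]
      funext x
      simp only [Function.comp_apply]
      rw [hτid])
  intro c hc
  have hfixi : ∀ i (x : B), μ i (τ x) = μ i x := by
    intro i x
    have := hfix (μ i) (Finset.mem_image_of_mem _ (Finset.mem_univ _))
    exact congrFun this x
  have h1 : ρ (t * c * t⁻¹) = ρ c := by
    refine b.ext fun i => ?_
    have h2 := hμ' i (τ ⟨c, hc⟩)
    have h3 := hμ' i ⟨c, hc⟩
    rw [hfixi] at h2
    change ρ (t * c * t⁻¹) (b i) = _ at h2
    rw [h2, ← h3]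
  have h2 : ρ ((t * c * t⁻¹) * c⁻¹) = 1 := by
    rw [map_mul, h1, ← map_mul, mul_inv_cancel, map_one]
  have h3 := hf _ h2
  have h4 : t * c * t⁻¹ = c := mul_inv_eq_one.mp h3
  calc t * c = t * c * t⁻¹ * t := by group
    _ = c * t := by rw [h4]

end Rep

section Galois

variable {W : Type v} [AddCommGroup W] [Module ℂ W] [FiniteDimensional ℂ W]

/-- An operator of prime order whose degree is small cannot have all powers with the same trace. -/
theorem exists_pow_trace_ne (T : End ℂ W) {p : ℕ} (hp : p.Prime) (hT : T ^ p = 1) (hne : T ≠ 1)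
    (hm : finrank ℂ W + 1 < p) :
    ∃ a : ℕ, 1 ≤ a ∧ a < p ∧ LinearMap.trace ℂ W (T ^ a) ≠ LinearMap.trace ℂ W T := by
  classical
  by_contra hcon
  push Not at hcon
  obtain ⟨b, c, hc, hcp⟩ := exists_eigenbasis T hp.ne_zero hT
  have hpow : ∀ (a : ℕ) i, (T ^ a) (b i) = c i ^ a • b i := by
    intro a i
    induction a with
    | zero => simp
    | succ a ih =>
      rw [pow_succ, Module.End.mul_apply, hc, map_smul, ih, smul_smul, pow_succ]
      ring_nf
  have htr : ∀ a : ℕ, LinearMap.trace ℂ W (T ^ a) = ∑ i, c i ^ a := fun a =>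
    trace_eq_sum_of_eigenbasis _ b _ (hpow a)
  set t : ℂ := LinearMap.trace ℂ W T with ht
  have hsplit : ∀ f : ℕ → ℂ, ∑ a ∈ Finset.range p, f a = ∑ a ∈ Finset.range (p - 1), f (a + 1) + f 0 := by
    intro f
    obtain ⟨q, hq⟩ := Nat.exists_eq_succ_of_ne_zero hp.ne_zero
    subst hq
    rw [Finset.sum_range_succ']
    rfl
  -- geometric sums
  have hgeom : ∀ z : ℂ, z ^ p = 1 → z ≠ 1 → ∑ a ∈ Finset.range p, z ^ a = 0 := by
    intro z hz hz1
    have := mul_neg_geom_sum z p
    rw [hz, sub_self] at this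
    have h1 : (1 - z) ≠ 0 := sub_ne_zero.mpr (Ne.symm hz1)
    exact (mul_eq_zero.mp this).resolve_left h1
  have hgeom1 : ∀ z : ℂ, z = 1 → ∑ a ∈ Finset.range p, z ^ a = p := by
    intro z hz
    simp [hz]
  -- counting
  let N : ℂ → ℕ := fun ω => (Finset.univ.filter fun i => c i = ω).card
  have hfour : ∀ ω : ℂ, ω ^ p = 1 → ω ≠ 1 → (p : ℂ) * (N ω : ℂ) = (finrank ℂ W : ℂ) - t := by
    intro ω hω hω1
    have hω0 : ω ≠ 0 := by
      rintro rfl
      rw [zero_pow hp.ne_zero] at hω
      exact zero_ne_one hω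
    have hsum : ∑ a ∈ Finset.range p, (∑ i, c i ^ a) * (ω⁻¹) ^ a = (p : ℂ) * (N ω : ℂ) := by
      have h1 : ∑ a ∈ Finset.range p, (∑ i, c i ^ a) * (ω⁻¹) ^ a
          = ∑ i, ∑ a ∈ Finset.range p, (c i * ω⁻¹) ^ a := by
        simp_rw [Finset.sum_mul]
        rw [Finset.sum_comm]
        refine Finset.sum_congr rfl fun i _ => Finset.sum_congr rfl fun a _ => ?_
        rw [mul_pow]
      rw [h1]
      have h2 : ∀ i, ∑ a ∈ Finset.range p, (c i * ω⁻¹) ^ a = if c i = ω then (p : ℂ) else 0 := by
        intro i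
        split_ifs with h
        · apply hgeom1
          rw [h, mul_inv_cancel₀ hω0]
        · apply hgeom
          · rw [mul_pow, hcp, inv_pow, hω, inv_one, one_mul]
          · intro h3
            apply h
            field_simp at h3
            exact h3
      simp_rw [h2]
      rw [Finset.sum_ite, Finset.sum_const_zero, add_zero, Finset.sum_const, nsmul_eq_mul, mul_comm]
    have hsum2 : ∑ a ∈ Finset.range p, (∑ i, c i ^ a) * (ω⁻¹) ^ a = (finrank ℂ W : ℂ) - t := by
      rw [hsplit]
      simp only [pow_zero, mul_one]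
      have h3 : ∑ i : Fin (finrank ℂ W), (1 : ℂ) = finrank ℂ W := by simp
      rw [h3]
      have h4 : ∀ a ∈ Finset.range (p - 1), (∑ i, c i ^ (a + 1)) * ω⁻¹ ^ (a + 1)
          = t * ω⁻¹ ^ (a + 1) := by
        intro a ha
        have ha' : a + 1 < p := by
          have := Finset.mem_range.mp ha
          omega
        rw [← htr, hcon (a + 1) (by omega) ha']
      rw [Finset.sum_congr rfl h4, ← Finset.mul_sum]
      have h5 := hgeom ω⁻¹ (by rw [inv_pow, hω, inv_one]) (by
        intro h
        apply hω1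
        rwa [inv_eq_one] at h)
      rw [hsplit] at h5
      simp only [pow_zero] at h5
      have h6 : ∑ a ∈ Finset.range (p - 1), ω⁻¹ ^ (a + 1) = -1 := by
        linear_combination h5
      rw [h6]
      ring
    rw [← hsum, hsum2]
  -- some eigenvalue is not one
  have hi0 : ∃ i₀, c i₀ ≠ 1 := by
    by_contra hcon2
    push Not at hcon2
    apply hne
    refine b.ext fun i => ?_
    rw [hc, hcon2]
    simp
  obtain ⟨i₀, hi₀⟩ := hi0
  have hNpos : ∀ ω : ℂ, ω ^ p = 1 → ω ≠ 1 → N ω = N (c i₀) := by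
    intro ω hω hω1
    have h1 := hfour ω hω hω1
    have h2 := hfour (c i₀) (hcp i₀) hi₀
    have h3 : (p : ℂ) * (N ω : ℂ) = (p : ℂ) * (N (c i₀) : ℂ) := h1.trans h2.symm
    have hp0 : (p : ℂ) ≠ 0 := Nat.cast_ne_zero.mpr hp.ne_zero
    have h4 := mul_left_cancel₀ hp0 h3
    exact_mod_cast h4
  have hN0 : 0 < N (c i₀) := by
    refine Finset.card_pos.mpr ⟨i₀, by simp⟩
  have hex : ∀ ω : ℂ, ω ^ p = 1 → ω ≠ 1 → ∃ i, c i = ω := by
    intro ω hω hω1
    have h1 : 0 < N ω := by rw [hNpos ω hω hω1]; exact hN0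
    obtain ⟨i, hi⟩ := Finset.card_pos.mp h1
    exact ⟨i, (Finset.mem_filter.mp hi).2⟩
  -- the nontrivial roots of unity
  have hζ : IsPrimitiveRoot (Complex.exp (2 * Real.pi * Complex.I / p)) p :=
    Complex.isPrimitiveRoot_exp p hp.ne_zero
  set ζ := Complex.exp (2 * Real.pi * Complex.I / p) with hζdef
  have hroot : ∀ a ∈ Finset.Ico 1 p, ∃ i, c i = ζ ^ a := by
    intro a ha
    obtain ⟨ha1, ha2⟩ := Finset.mem_Ico.mp ha
    refine hex _ ?_ ?_
    · rw [← pow_mul, mul_comm, pow_mul, hζ.pow_eq_one, one_pow]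
    · intro h
      have := hζ.dvd_of_pow_eq_one _ h
      exact absurd (Nat.le_of_dvd (by omega) this) (by omega)
  haveI : Nonempty (Fin (finrank ℂ W)) := ⟨i₀⟩
  choose! φ hφ using hroot
  have hle : (Finset.Ico 1 p).card ≤ (Finset.univ : Finset (Fin (finrank ℂ W))).card := by
    refine Finset.card_le_card_of_injOn φ (fun a _ => Finset.mem_univ _) ?_
    intro a ha a' ha' h
    have ha1 := hφ a ha
    have ha2 := hφ a' ha'
    rw [h, ha2] at ha1
    have hb1 := Finset.mem_coe.mp ha
    have hb2 := Finset.mem_coe.mp ha'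
    exact hζ.pow_inj (Finset.mem_Ico.mp hb2).2 (Finset.mem_Ico.mp hb1).2 ha1 |>.symm
  simp at hle
  omega

variable {G : Type u} [Group G] [Finite G]

/-- The Galois conjugate which moves the character at an element of prime order `p` and keeps it
on the `p`-regular elements. -/
theorem exists_galois_conj (τ : Representation ℂ G W) {p : ℕ} (hp : p.Prime) {x : G}
    (hx : x ^ p = 1) (hne : τ x ≠ 1) (hm : finrank ℂ W + 1 < p) :
    ∃ k : ℕ, k.Coprime (Nat.card G) ∧ (∀ g : G, (orderOf g).Coprime p → g ^ k = g) ∧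
      τ.character (x ^ k) ≠ τ.character x := by
  have hT : (τ x) ^ p = 1 := by rw [← map_pow, hx, map_one]
  obtain ⟨a, ha1, ha2, ha⟩ := exists_pow_trace_ne (τ x) hp hT hne hm
  -- write `|G| = p ^ e * u`
  have hG0 : Nat.card G ≠ 0 := Nat.card_pos.ne'
  obtain ⟨e, u, hu, hGu⟩ := Nat.exists_eq_pow_mul_and_not_dvd hG0 p hp.ne_one
  have hcop : Nat.Coprime u p := ((Nat.Prime.coprime_iff_not_dvd hp).mpr hu).symm
  let k₀ := Nat.chineseRemainder hcop 1 a
  have hk1 : (k₀ : ℕ) ≡ 1 [MOD u] := k₀.2.1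
  have hk2 : (k₀ : ℕ) ≡ a [MOD p] := k₀.2.2
  refine ⟨k₀, ?_, ?_, ?_⟩
  · -- coprimality
    rw [hGu]
    refine Nat.Coprime.mul_right (Nat.Coprime.pow_right _ ?_) ?_
    · refine Nat.Coprime.symm ((Nat.Prime.coprime_iff_not_dvd hp).mpr ?_)
      intro hd
      have hd2 : p ∣ a := (Nat.modEq_zero_iff_dvd.mp (hk2.symm.trans (Nat.modEq_zero_iff_dvd.mpr hd)))
      exact absurd (Nat.le_of_dvd (by omega) hd2) (by omega)
    · have := hk1.gcd_eq
      simp only [Nat.gcd_one_left] at this
      exact this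
  · intro g hg
    have h1 : orderOf g ∣ p ^ e * u := by
      rw [← hGu]
      exact orderOf_dvd_natCard g
    have h2 : orderOf g ∣ u := (Nat.Coprime.pow_right e hg).dvd_of_dvd_mul_left h1
    have h3 : (k₀ : ℕ) ≡ 1 [MOD orderOf g] := hk1.of_dvd h2
    have := (pow_eq_pow_iff_modEq (x := g)).mpr h3
    simpa using this
  · have h1 : x ^ (k₀ : ℕ) = x ^ a := by
      have h2 : (k₀ : ℕ) ≡ a [MOD orderOf x] := hk2.of_dvd (orderOf_dvd_of_pow_eq_one hx)
      exact pow_eq_pow_iff_modEq.mpr h2
    rw [h1]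
    change LinearMap.trace ℂ W (τ (x ^ a)) ≠ LinearMap.trace ℂ W (τ x)
    rw [map_pow]
    exact ha

/-- The product trick: a character of a group with two Galois conjugates differing from it
on disjoint parts of the group cannot be irreducible. -/
theorem false_of_two_galois [Fintype G] {ψ : G → ℂ} (hψ : Cfsg.IsIrrCharacter G ψ) {k l : ℕ}
    (hk : k.Coprime (Nat.card G)) (hl : l.Coprime (Nat.card G))
    (h1 : (fun g => ψ (g ^ k)) ≠ ψ) (h2 : (fun g => ψ (g ^ l)) ≠ ψ)
    (hcov : ∀ g, ψ (g ^ k) = ψ g ∨ ψ (g ^ l) = ψ g) : False := by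
  classical
  have hψ₁ := Cfsg.Agent.Lib.OddChar.GaloisConj.isIrrCharacter_pow hk hψ
  have hψ₂ := Cfsg.Agent.Lib.OddChar.GaloisConj.isIrrCharacter_pow hl hψ
  set ψ₁ : G → ℂ := fun g => ψ (g ^ k) with hψ₁def
  set ψ₂ : G → ℂ := fun g => ψ (g ^ l) with hψ₂def
  have h0 : Cfsg.classInner (ψ - ψ₁) (ψ - ψ₂) = 0 := by
    rw [classInner_def]
    rw [mul_eq_zero]
    right
    refine Finset.sum_eq_zero fun g _ => ?_
    rcases hcov g with h | h
    · have : (ψ - ψ₁) g = 0 := by
        simp [hψ₁def, h]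
      rw [this, zero_mul]
    · have : (ψ - ψ₂) g = 0 := by
        simp [hψ₂def, h]
      rw [this]
      simp
  rw [classInner_sub_left, classInner_sub_right, classInner_sub_right] at h0
  rw [classInner_irr hψ hψ, classInner_irr hψ hψ₂, classInner_irr hψ₁ hψ, classInner_irr hψ₁ hψ₂,
    if_pos rfl, if_neg (Ne.symm h2), if_neg h1] at h0
  by_cases h3 : ψ₁ = ψ₂
  · rw [if_pos h3] at h0
    norm_num at h0
  · rw [if_neg h3] at h0
    norm_num at h0

end Galois

end Cfsg.Agent.Lib.LinGroup
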