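import Mathlib

/-!
# Conjugating abelian `π`-subgroups into an abelian Hall subgroup
-/

set_option autoImplicit false
set_option linter.unusedSectionVars false

namespace Cfsg.Agent.Lib.LinGroup

universe u

section

variable {Γ : Type u} [Group Γ]

/-- If `x` commutes with all powers of `a` of prime-power order, then `x` commutes with `a`. -/
theorem commute_of_forall_primePow_pow [Finite Γ] (x : Γ) :
    ∀ (n : ℕ) (a : Γ), orderOf a = n →
      (∀ (k p e : ℕ), p.Prime → orderOf (a ^ k) = p ^ e → Commute x (a ^ k)) → Commute x a := by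
  intro n
  induction n using Nat.strong_induction_on with
  | _ n ih =>
    intro a han hcomm
    have hn0 : n ≠ 0 := by
      rw [← han]
      exact (orderOf_pos a).ne'
    by_cases hn1 : n = 1
    · have ha : a = 1 := by
        rw [← orderOf_eq_one_iff, han, hn1]
      rw [ha]
      exact Commute.one_right x
    · set p := n.minFac with hp
      have hpp : p.Prime := Nat.minFac_prime hn1
      have hpn : p ∣ n := Nat.minFac_dvd n
      obtain ⟨e, m, hm, hnm⟩ := Nat.exists_eq_pow_mul_and_not_dvd hn0 p hpp.ne_one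
      have he : e ≠ 0 := by
        rintro rfl
        apply hm
        rw [pow_zero, one_mul] at hnm
        rwa [← hnm]
      have hcop : Nat.Coprime (p ^ e) m :=
        Nat.Coprime.pow_left _ ((Nat.Prime.coprime_iff_not_dvd hpp).mpr hm)
      have hm0 : m ≠ 0 := by
        rintro rfl
        simp at hnm
        exact hn0 hnm
      have hpe0 : p ^ e ≠ 0 := pow_ne_zero _ hpp.ne_zero
      have h1 : orderOf (a ^ m) = p ^ e := by
        rw [orderOf_pow_of_dvd hm0 (by rw [han, hnm]; exact dvd_mul_left _ _), han, hnm]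
        exact Nat.mul_div_cancel _ (Nat.pos_of_ne_zero hm0)
      have h2 : orderOf (a ^ (p ^ e)) = m := by
        rw [orderOf_pow_of_dvd hpe0 (by rw [han, hnm]; exact dvd_mul_right _ _), han, hnm]
        exact Nat.mul_div_cancel_left _ (Nat.pos_of_ne_zero hpe0)
      have hlt : m < n := by
        rw [hnm]
        have : 1 < p ^ e := Nat.one_lt_pow he hpp.one_lt
        nlinarith [Nat.pos_of_ne_zero hm0]
      have c1 : Commute x (a ^ m) := hcomm m p e hpp h1
      have c2 : Commute x (a ^ (p ^ e)) := by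
        refine ih m hlt _ h2 ?_
        intro k q f hq hk
        rw [← pow_mul]
        refine hcomm _ q f hq ?_
        rw [pow_mul]
        exact hk
      have hbez : (Nat.gcd (p ^ e) m : ℤ) = (p ^ e : ℕ) * Nat.gcdA (p ^ e) m + m * Nat.gcdB (p ^ e) m :=
        Nat.gcd_eq_gcd_ab _ _
      rw [hcop.gcd_eq_one] at hbez
      have ha : a = (a ^ (p ^ e)) ^ (Nat.gcdA (p ^ e) m) * (a ^ m) ^ (Nat.gcdB (p ^ e) m) := by
        rw [← zpow_natCast, ← zpow_natCast, ← zpow_mul, ← zpow_mul, ← zpow_add, ← hbez]
        simp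
      rw [ha]
      exact (c2.zpow_right _).mul_right (c1.zpow_right _)

variable [Finite Γ]

/-- A `p`-element of `H` can be conjugated inside `H` into any subgroup of `H` of index prime to
`p`. -/
theorem exists_conj_mem_of_not_dvd_relIndex {p : ℕ} (hp : p.Prime) {H B : Subgroup Γ}
    (hB : B ≤ H) (hnd : ¬ p ∣ B.relIndex H) {a : Γ} (ha : a ∈ H) {e : ℕ}
    (hae : orderOf a = p ^ e) : ∃ g ∈ H, g⁻¹ * a * g ∈ B := by
  haveI : Fact p.Prime := ⟨hp⟩
  let a' : H := ⟨a, ha⟩
  have hP : IsPGroup p (Subgroup.zpowers a') := by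
    rw [IsPGroup.iff_card]
    refine ⟨e, ?_⟩
    rw [Nat.card_zpowers]
    rw [Subgroup.orderOf_mk]
    exact hae
  have hT : ¬ p ∣ (B.subgroupOf H).index := by
    simpa [Subgroup.relIndex] using hnd
  obtain ⟨⟨q⟩, hq⟩ := hP.nonempty_fixed_point_of_prime_not_dvd_card (H ⧸ B.subgroupOf H) hT
  refine ⟨q.1, q.2, ?_⟩
  have h1 := hq ⟨a', Subgroup.mem_zpowers a'⟩
  have h2 : a' • (q : H ⧸ B.subgroupOf H) = (q : H ⧸ B.subgroupOf H) := h1
  have h3 : ((a' * q : H) : H ⧸ B.subgroupOf H) = (q : H ⧸ B.subgroupOf H) := h2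
  rw [QuotientGroup.eq] at h3
  rw [Subgroup.mem_subgroupOf] at h3
  have h4 : q.1⁻¹ * a⁻¹ * q.1 ∈ B := by
    simpa [a', mul_assoc] using h3
  have h5 := B.inv_mem h4
  have h6 : (q.1⁻¹ * a⁻¹ * q.1)⁻¹ = q.1⁻¹ * a * q.1 := by group
  rwa [h6] at h5

/-- The central case of Lemma W. -/
theorem le_of_central_of_coprime (π : ℕ → Prop) {H B A : Subgroup Γ} (hB : B ≤ H) (hA : A ≤ H)
    (hcen : ∀ a ∈ A, ∀ b ∈ H, b * a = a * b)
    (hind : ∀ q : ℕ, q.Prime → q ∣ B.relIndex H → ¬ π q)
    (hAπ : ∀ q : ℕ, q.Prime → q ∣ Nat.card A → π q) : A ≤ B := by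
  have hcomm : ∀ (x : B) (y : A), Commute (x : Γ) (y : Γ) := fun x y =>
    hcen y.1 y.2 x.1 (hB x.2)
  let φ : B × A →* Γ := MonoidHom.noncommCoprod B.subtype A.subtype (fun x y => hcomm x y)
  have hφ : ∀ x : B × A, φ x = x.1.1 * x.2.1 := fun x => rfl
  set D : Subgroup Γ := φ.range with hD
  have hBD : B ≤ D := by
    intro b hb
    refine ⟨(⟨b, hb⟩, 1), ?_⟩
    simp [hφ]
  have hAD : A ≤ D := by
    intro a ha
    refine ⟨(1, ⟨a, ha⟩), ?_⟩
    simp [hφ]
  have hDH : D ≤ H := by
    rintro _ ⟨x, rfl⟩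
    rw [hφ]
    exact H.mul_mem (hB x.1.2) (hA x.2.2)
  have h1 : B.relIndex D * D.relIndex H = B.relIndex H := Subgroup.relIndex_mul_relIndex B D H hBD hDH
  have h2 : Nat.card D ∣ Nat.card B * Nat.card A := by
    rw [← Nat.card_prod]
    exact Subgroup.card_range_dvd φ
  have h3 : B.relIndex D * Nat.card B = Nat.card D := by
    have h30 := Subgroup.card_mul_index (B.subgroupOf D)
    rw [Nat.card_congr (Subgroup.subgroupOfEquivOfLe hBD).toEquiv] at h30
    rw [mul_comm]
    exact h30
  have h4 : B.relIndex D ∣ Nat.card A := by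
    rw [← h3, mul_comm] at h2
    exact Nat.dvd_of_mul_dvd_mul_left (Nat.card_pos) h2
  have h5 : B.relIndex D = 1 := by
    by_contra hne
    obtain ⟨q, hq, hqd⟩ := Nat.exists_prime_and_dvd hne
    exact hind q hq (hqd.trans (Dvd.intro _ h1)) (hAπ q hq (hqd.trans h4))
  exact hAD.trans (Subgroup.relIndex_eq_one.mp h5)

/-- **Lemma W**: an abelian `π`-subgroup can be conjugated into an abelian subgroup whose index
is prime to `π`. -/
theorem exists_conj_le_of_abelian_hall (π : ℕ → Prop) :
    ∀ (n : ℕ) (H B A : Subgroup Γ), Nat.card H = n → B ≤ H → A ≤ H →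
      (∀ x ∈ B, ∀ y ∈ B, x * y = y * x) → (∀ x ∈ A, ∀ y ∈ A, x * y = y * x) →
      (∀ q : ℕ, q.Prime → q ∣ B.relIndex H → ¬ π q) →
      (∀ q : ℕ, q.Prime → q ∣ Nat.card A → π q) →
      ∃ h ∈ H, ∀ a ∈ A, h⁻¹ * a * h ∈ B := by
  intro n
  induction n using Nat.strong_induction_on with
  | _ n ih =>
    intro H B A hn hB hA hBc hAc hind hAπ
    by_cases hcen : ∀ a ∈ A, ∀ b ∈ H, b * a = a * b
    · refine ⟨1, H.one_mem, fun a ha => ?_⟩
      have := le_of_central_of_coprime π hB hA hcen hind hAπ ha
      simpa using this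
    · push Not at hcen
      obtain ⟨a, haA, x, hxH, hne⟩ := hcen
      -- a power of `a` of prime power order does not commute with `x`
      have hnc : ¬ Commute x a := hne
      have : ∃ (k p e : ℕ), p.Prime ∧ orderOf (a ^ k) = p ^ e ∧ ¬ Commute x (a ^ k) := by
        by_contra hcon
        push Not at hcon
        exact hnc (commute_of_forall_primePow_pow x _ a rfl
          (fun k p e hp ho => hcon k p e hp ho))
      obtain ⟨k, p, e, hp, hoe, hnck⟩ := this
      set c : Γ := a ^ k with hc
      have hcA : c ∈ A := A.pow_mem haA k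
      have hcH : c ∈ H := hA hcA
      have he : e ≠ 0 := by
        rintro rfl
        apply hnck
        have : c = 1 := by
          rw [← orderOf_eq_one_iff, hoe, pow_zero]
        rw [this]
        exact Commute.one_right x
      -- `p` divides `|A|`
      have hpA : p ∣ Nat.card A := by
        have h1 : orderOf c ∣ Nat.card A := by
          have := orderOf_dvd_natCard (⟨c, hcA⟩ : A)
          rwa [Subgroup.orderOf_mk] at this
        rw [hoe] at h1
        exact (dvd_pow_self p he).trans h1
      have hπp : π p := hAπ p hp hpA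
      have hnd : ¬ p ∣ B.relIndex H := fun h => hind p hp h hπp
      obtain ⟨g, hgH, hgB⟩ := exists_conj_mem_of_not_dvd_relIndex hp hB hnd hcH hoe
      -- move `A` by `g`
      set c' : Γ := g⁻¹ * c * g with hc'
      let A' : Subgroup Γ := A.map (MulAut.conj g⁻¹).toMonoidHom
      have hA'mem : ∀ y, y ∈ A ↔ g⁻¹ * y * g ∈ A' := by
        intro y
        constructor
        · intro hy
          exact ⟨y, hy, by simp [MulAut.conj_apply]⟩
        · rintro ⟨z, hz, hzy⟩
          have : z = y := by
            simp only [MulEquiv.coe_toMonoidHom, MulAut.conj_apply, inv_inv] at hzy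
            have h5 : g⁻¹ * z * g = g⁻¹ * y * g := by
              simpa [mul_assoc] using hzy
            simpa using h5
          rwa [← this]
      have hA'mem2 : ∀ y, y ∈ A' → ∃ z ∈ A, y = g⁻¹ * z * g := by
        rintro y ⟨z, hz, rfl⟩
        exact ⟨z, hz, by simp [MulAut.conj_apply]⟩
      have hA'H : A' ≤ H := by
        intro y hy
        obtain ⟨z, hz, rfl⟩ := hA'mem2 y hy
        exact H.mul_mem (H.mul_mem (H.inv_mem hgH) (hA hz)) hgH
      have hA'c : ∀ x ∈ A', ∀ y ∈ A', x * y = y * x := by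
        intro x hx y hy
        obtain ⟨z, hz, rfl⟩ := hA'mem2 x hx
        obtain ⟨w, hw, rfl⟩ := hA'mem2 y hy
        have := hAc z hz w hw
        calc g⁻¹ * z * g * (g⁻¹ * w * g) = g⁻¹ * (z * w) * g := by group
          _ = g⁻¹ * (w * z) * g := by rw [this]
          _ = g⁻¹ * w * g * (g⁻¹ * z * g) := by group
      have hA'card : Nat.card A' = Nat.card A := by
        exact Nat.card_congr (Subgroup.equivMapOfInjective A _
          (MulAut.conj g⁻¹).injective).toEquiv.symm
      have hc'A' : c' ∈ A' := (hA'mem c).mp hcA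
      -- the centralizer
      let C : Subgroup Γ := H ⊓ Subgroup.centralizer {c'}
      have hCmem : ∀ y, y ∈ C ↔ y ∈ H ∧ y * c' = c' * y := by
        intro y
        simp [C, Subgroup.mem_centralizer_singleton_iff]
      have hBC : B ≤ C := by
        intro b hb
        rw [hCmem]
        exact ⟨hB hb, hBc b hb c' hgB⟩
      have hA'C : A' ≤ C := by
        intro y hy
        rw [hCmem]
        exact ⟨hA'H hy, hA'c y hy c' hc'A'⟩
      have hCH : C ≤ H := inf_le_left
      have hlt : C < H := by
        refine lt_of_le_of_ne hCH ?_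
        intro hCe
        -- then `c'` is central in `H`, hence so is `c`
        apply hnck
        have hgxg : g⁻¹ * x * g ∈ C := by
          rw [hCe]
          exact H.mul_mem (H.mul_mem (H.inv_mem hgH) hxH) hgH
        rw [hCmem] at hgxg
        have h6 := hgxg.2
        have h7 : g⁻¹ * (x * c) * g = g⁻¹ * (c * x) * g := by
          calc g⁻¹ * (x * c) * g = g⁻¹ * x * g * c' := by rw [hc']; group
            _ = c' * (g⁻¹ * x * g) := h6
            _ = g⁻¹ * (c * x) * g := by rw [hc']; group
        have h8 : x * c = c * x := by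
          simpa using h7
        exact h8
      have hcardlt : Nat.card C < n := by
        rw [← hn]
        exact Set.ncard_lt_ncard hlt (Set.toFinite _)
      have hindC : ∀ q : ℕ, q.Prime → q ∣ B.relIndex C → ¬ π q := by
        intro q hq hqd
        refine hind q hq (hqd.trans ?_)
        exact Dvd.intro _ (Subgroup.relIndex_mul_relIndex B C H hBC hCH)
      obtain ⟨h, hhC, hh⟩ := ih _ hcardlt C B A' rfl hBC hA'C hBc hA'c hindC
        (by rw [hA'card]; exact hAπ)
      refine ⟨g * h, H.mul_mem hgH (hCH hhC), ?_⟩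
      intro y hy
      have := hh _ ((hA'mem y).mp hy)
      have h9 : (g * h)⁻¹ * y * (g * h) = h⁻¹ * (g⁻¹ * y * g) * h := by group
      rw [h9]
      exact this

end

end Cfsg.Agent.Lib.LinGroup
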