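import Mathlib
import Cfsg.Agent.Lib.LinGroup.HallW
import Cfsg.Agent.Lib.LinGroup.HallRep

/-!
# Blichfeldt's theorem: abelian Hall subgroups for primes bigger than the degree plus one
-/

set_option autoImplicit false
set_option linter.unusedSectionVars false
set_option linter.style.haveILetI false

namespace Cfsg.Agent.Lib.LinGroup

open Module Cfsg.Agent.Lib.Char.Decomp Cfsg.Agent.Lib.Char.Ortho Cfsg.Agent.Lib.Char.Basic
open scoped commutatorElement

universe u v

/-- Abelian Hall subgroup for the primes bigger than `n + 1`. -/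
def IsAbHall {G : Type u} [Group G] (n : ℕ) (A : Subgroup G) : Prop :=
  (∀ x ∈ A, ∀ y ∈ A, x * y = y * x) ∧ (∀ q : ℕ, q.Prime → q ∣ Nat.card A → n + 1 < q) ∧
    ∀ q : ℕ, q.Prime → q ∣ A.index → q ≤ n + 1

/-- An abelian Hall subgroup of a subgroup, inside the big group. -/
def IsAbHallIn {G : Type u} [Group G] (n : ℕ) (H B : Subgroup G) : Prop :=
  B ≤ H ∧ (∀ x ∈ B, ∀ y ∈ B, x * y = y * x) ∧ (∀ q : ℕ, q.Prime → q ∣ Nat.card B → n + 1 < q) ∧
    ∀ q : ℕ, q.Prime → q ∣ B.relIndex H → q ≤ n + 1

section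

variable {G : Type u} [Group G]

theorem isAbHallIn_of_isAbHall {n : ℕ} {H : Subgroup G} {C : Subgroup H} (hC : IsAbHall n C) :
    IsAbHallIn n H (C.map H.subtype) := by
  obtain ⟨h1, h2, h3⟩ := hC
  refine ⟨?_, ?_, ?_, ?_⟩
  · rintro _ ⟨x, _, rfl⟩
    exact x.2
  · rintro _ ⟨x, hx, rfl⟩ _ ⟨y, hy, rfl⟩
    have := h1 x hx y hy
    simpa using congrArg Subtype.val this
  · intro q hq hd
    apply h2 q hq
    rwa [Nat.card_congr (Subgroup.equivMapOfInjective C H.subtype H.subtype_injective).toEquiv]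
  · intro q hq hd
    apply h3 q hq
    have : (C.map H.subtype).relIndex H = C.index := by
      rw [Subgroup.relIndex, Subgroup.subgroupOf, Subgroup.comap_map_eq_self_of_injective
        H.subtype_injective]
    rwa [this] at hd

theorem isAbHall_of_isAbHallIn {n : ℕ} {H B : Subgroup G} (hB : IsAbHallIn n H B)
    (hH : ∀ q : ℕ, q.Prime → q ∣ H.index → q ≤ n + 1) : IsAbHall n B := by
  obtain ⟨h1, h2, h3, h4⟩ := hB
  refine ⟨h2, h3, ?_⟩
  intro q hq hd
  rw [← Subgroup.relIndex_mul_index h1] at hd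
  rcases (Nat.Prime.dvd_mul hq).mp hd with h | h
  · exact h4 q hq h
  · exact hH q hq h

/-- Joining two commuting abelian subgroups. -/
theorem exists_join_comm [Finite G] {B R : Subgroup G} (hB : ∀ x ∈ B, ∀ y ∈ B, x * y = y * x)
    (hR : ∀ x ∈ R, ∀ y ∈ R, x * y = y * x) (hBR : ∀ x ∈ B, ∀ y ∈ R, x * y = y * x) :
    ∃ D : Subgroup G, B ≤ D ∧ R ≤ D ∧ (∀ x ∈ D, ∀ y ∈ D, x * y = y * x) ∧
      Nat.card D ∣ Nat.card B * Nat.card R := by
  have hcomm : ∀ (x : B) (y : R), Commute (x : G) (y : G) := fun x y => hBR x x.2 y y.2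
  let φ : B × R →* G := MonoidHom.noncommCoprod B.subtype R.subtype (fun x y => hcomm x y)
  have hφ : ∀ x : B × R, φ x = x.1.1 * x.2.1 := fun x => rfl
  refine ⟨φ.range, ?_, ?_, ?_, ?_⟩
  · intro b hb
    refine ⟨(⟨b, hb⟩, 1), ?_⟩
    simp [hφ]
  · intro a ha
    refine ⟨(1, ⟨a, ha⟩), ?_⟩
    simp [hφ]
  · rintro _ ⟨x, rfl⟩ _ ⟨y, rfl⟩
    rw [hφ, hφ]
    have h1 := hB x.1 x.1.2 y.1 y.1.2
    have h2 := hR x.2 x.2.2 y.2 y.2.2
    have h3 := hBR y.1 y.1.2 x.2 x.2.2
    have h4 := hBR x.1 x.1.2 y.2 y.2.2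
    calc (x.1 : G) * x.2 * (y.1 * y.2) = x.1 * (x.2 * y.1) * y.2 := by group
      _ = x.1 * (y.1 * x.2) * y.2 := by rw [h3]
      _ = (x.1 * y.1) * (x.2 * y.2) := by group
      _ = (y.1 * x.1) * (y.2 * x.2) := by rw [h1, h2]
      _ = y.1 * (x.1 * y.2) * x.2 := by group
      _ = y.1 * (y.2 * x.1) * x.2 := by rw [h4]
      _ = y.1 * y.2 * (x.1 * x.2) := by group
  · rw [← Nat.card_prod]
    exact Subgroup.card_range_dvd φ

/-- Non-perfect finite groups have normal subgroups of prime index. -/
theorem exists_normal_prime_index [Finite G] (h : commutator G ≠ ⊤) :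
    ∃ (M : Subgroup G) (r : ℕ), M.Normal ∧ r.Prime ∧ M.index = r := by
  classical
  obtain ⟨M, hM, hle⟩ : ∃ M : Subgroup G, IsCoatom M ∧ commutator G ≤ M :=
    (eq_top_or_exists_le_coatom (commutator G)).resolve_left h
  have hMn : M.Normal := by
    refine ⟨fun g hg x => ?_⟩
    have h1 : ⁅x, g⁆ ∈ M := hle (Subgroup.commutator_mem_commutator (Subgroup.mem_top x)
      (Subgroup.mem_top g))
    have h2 : x * g * x⁻¹ = ⁅x, g⁆ * g := by
      rw [commutatorElement_def]
      group
    rw [h2]
    exact M.mul_mem h1 hg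
  have hne : M ≠ ⊤ := hM.1
  have hidx : M.index ≠ 1 := fun h1 => hne (Subgroup.index_eq_one.mp h1)
  obtain ⟨r, hr, hrd⟩ := Nat.exists_prime_and_dvd hidx
  refine ⟨M, r, hMn, hr, ?_⟩
  have hrQ : r ∣ Nat.card (G ⧸ M) := by
    rwa [← Subgroup.index_eq_card]
  haveI : Fact r.Prime := ⟨hr⟩
  obtain ⟨x, hx⟩ := exists_prime_orderOf_dvd_card' r hrQ
  let L : Subgroup G := (Subgroup.zpowers x).comap (QuotientGroup.mk' M)
  have hML : M ≤ L := by
    intro m hm
    have : QuotientGroup.mk' M m = 1 := (QuotientGroup.eq_one_iff m).mpr hm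
    change QuotientGroup.mk' M m ∈ Subgroup.zpowers x
    rw [this]
    exact Subgroup.one_mem _
  have hx1 : x ≠ 1 := by
    rintro rfl
    rw [orderOf_one] at hx
    exact hr.one_lt.ne hx
  have hML2 : M ≠ L := by
    intro hEq
    obtain ⟨g, rfl⟩ := QuotientGroup.mk'_surjective M x
    have hg : g ∈ L := by
      change QuotientGroup.mk' M g ∈ Subgroup.zpowers _
      exact Subgroup.mem_zpowers _
    rw [← hEq] at hg
    exact hx1 ((QuotientGroup.eq_one_iff g).mpr hg)
  have hLtop : L = ⊤ := hM.2 L (lt_of_le_of_ne hML hML2)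
  have hztop : Subgroup.zpowers x = ⊤ := by
    rw [eq_top_iff]
    intro y _
    obtain ⟨g, rfl⟩ := QuotientGroup.mk'_surjective M y
    have : g ∈ L := by
      rw [hLtop]
      exact Subgroup.mem_top g
    exact this
  rw [Subgroup.index_eq_card, ← hx, ← Nat.card_zpowers, hztop, Subgroup.card_top]

/-- Index of a conjugate. -/
theorem card_conj_le_of_forall_mem [Finite G] {S T : Subgroup G} (g : G)
    (h : ∀ x ∈ S, g⁻¹ * x * g ∈ T) : ∃ U : Subgroup G, U ≤ T ∧ Nat.card U = Nat.card S ∧
      U.index = S.index := by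
  let U : Subgroup G := S.map (MulAut.conj g⁻¹).toMonoidHom
  have hU : Nat.card U = Nat.card S := by
    exact Nat.card_congr (Subgroup.equivMapOfInjective S _
      (MulAut.conj g⁻¹).injective).toEquiv.symm
  refine ⟨U, ?_, hU, ?_⟩
  · rintro _ ⟨x, hx, rfl⟩
    have := h x hx
    simpa [MulAut.conj_apply] using this
  · exact Subgroup.index_map_equiv S (MulAut.conj g⁻¹)

end

section Main

variable {G : Type u} [Group G] [Finite G]
variable {V : Type v} [AddCommGroup V] [Module ℂ V] [FiniteDimensional ℂ V]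

/-- The non-perfect case: extending a Hall subgroup of a normal subgroup of prime index `r`,
with `r` bigger than `n + 1`. -/
theorem isAbHall_of_normal_prime_index {n : ℕ} (ρ : Representation ℂ G V)
    (hf : ∀ g, ρ g = 1 → g = 1) (hV : finrank ℂ V ≤ n) {M B : Subgroup G} {r : ℕ}
    (hMn : M.Normal) (hr : r.Prime) (hMr : M.index = r) (hπr : n + 1 < r)
    (hB : IsAbHallIn n M B) : ∃ A : Subgroup G, IsAbHall n A := by
  classical
  obtain ⟨hBM, hBc, hBπ, hBind⟩ := hB
  haveI : Fact r.Prime := ⟨hr⟩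
  have hVr : finrank ℂ V < r := by omega
  let π : ℕ → Prop := fun q => n + 1 < q
  -- the normalizer of `B` covers `G / M`
  let N : Subgroup G := Subgroup.normalizer (B : Set G)
  have hfr : ∀ g : G, ∃ h ∈ M, h⁻¹ * g ∈ N := by
    intro g
    let A : Subgroup G := B.map (MulAut.conj g).toMonoidHom
    have hAmem : ∀ y, y ∈ A → ∃ z ∈ B, y = g * z * g⁻¹ := by
      rintro y ⟨z, hz, rfl⟩
      exact ⟨z, hz, rfl⟩
    have hAmem' : ∀ z ∈ B, g * z * g⁻¹ ∈ A := fun z hz => ⟨z, hz, rfl⟩
    have hAM : A ≤ M := by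
      intro y hy
      obtain ⟨z, hz, rfl⟩ := hAmem y hy
      exact hMn.conj_mem z (hBM hz) g
    have hAc : ∀ x ∈ A, ∀ y ∈ A, x * y = y * x := by
      intro x hx y hy
      obtain ⟨z, hz, rfl⟩ := hAmem x hx
      obtain ⟨w, hw, rfl⟩ := hAmem y hy
      have := hBc z hz w hw
      calc g * z * g⁻¹ * (g * w * g⁻¹) = g * (z * w) * g⁻¹ := by group
        _ = g * (w * z) * g⁻¹ := by rw [this]
        _ = g * w * g⁻¹ * (g * z * g⁻¹) := by group
    have hAcard : Nat.card A = Nat.card B := by
      exact Nat.card_congr (Subgroup.equivMapOfInjective B _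
        (MulAut.conj g).injective).toEquiv.symm
    obtain ⟨h, hhM, hh⟩ := exists_conj_le_of_abelian_hall π _ M B A rfl hBM hAM hBc hAc
      (fun q hq hd => not_lt.mpr (hBind q hq hd)) (by rw [hAcard]; exact hBπ)
    refine ⟨h, hhM, ?_⟩
    set k : G := h⁻¹ * g with hk
    have hk1 : ∀ z ∈ B, k * z * k⁻¹ ∈ B := by
      intro z hz
      have := hh _ (hAmem' z hz)
      have h2 : k * z * k⁻¹ = h⁻¹ * (g * z * g⁻¹) * h := by
        rw [hk]; group
      rw [h2]
      exact this
    -- a map of a finite subgroup into itself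
    let C : Subgroup G := B.map (MulAut.conj k).toMonoidHom
    have hCB : C ≤ B := by
      rintro _ ⟨z, hz, rfl⟩
      exact hk1 z hz
    have hCcard : Nat.card C = Nat.card B := by
      exact Nat.card_congr (Subgroup.equivMapOfInjective B _
        (MulAut.conj k).injective).toEquiv.symm
    have hCeq : C = B := Subgroup.eq_of_le_of_card_ge hCB (by rw [hCcard])
    change k ∈ Subgroup.normalizer (B : Set G)
    rw [Subgroup.mem_normalizer_iff]
    intro z
    constructor
    · intro hz
      exact hk1 z hz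
    · intro hz
      rw [← hCeq] at hz
      obtain ⟨w, hw, hwz⟩ := hz
      have : w = z := by
        simp only [MulEquiv.coe_toMonoidHom, MulAut.conj_apply] at hwz
        have h5 : k * w * k⁻¹ = k * z * k⁻¹ := hwz
        simpa using h5
      rwa [← this]
  have hBN : B ≤ N := by
    intro b hb
    rw [show N = Subgroup.normalizer (B : Set G) from rfl, Subgroup.mem_normalizer_iff]
    intro z
    constructor
    · intro hz
      exact B.mul_mem (B.mul_mem hb hz) (B.inv_mem hb)
    · intro hz
      have h5 : z = b⁻¹ * (b * z * b⁻¹) * b := by group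
      rw [h5]
      exact B.mul_mem (B.mul_mem (B.inv_mem hb) hz) hb
  have hsup : N ⊔ M = ⊤ := by
    rw [eq_top_iff]
    intro g _
    obtain ⟨h, hhM, hh⟩ := hfr g
    have h5 : g = h * (h⁻¹ * g) := by group
    rw [h5, sup_comm]
    exact Subgroup.mul_mem_sup hhM hh
  -- index computation
  have hNindex : N.index = N.relIndex M := by
    have h1 : M.relIndex N = M.index := by
      rw [← Subgroup.relIndex_sup_right, hsup, Subgroup.relIndex_top_right]
    have h2 : (N ⊓ M).relIndex N = M.relIndex N := Subgroup.inf_relIndex_left N M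
    have h3 : (N ⊓ M).relIndex M = N.relIndex M := Subgroup.inf_relIndex_right N M
    have h4 := Subgroup.relIndex_mul_index (H := N ⊓ M) (K := N) inf_le_left
    have h5 := Subgroup.relIndex_mul_index (H := N ⊓ M) (K := M) inf_le_right
    rw [h2, h1] at h4
    rw [h3] at h5
    have h6 : M.index * N.index = N.relIndex M * M.index := h4.trans h5.symm
    have hM0 : M.index ≠ 0 := Subgroup.index_ne_zero_of_finite
    rw [mul_comm] at h6
    exact Nat.eq_of_mul_eq_mul_right (Nat.pos_of_ne_zero hM0) h6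
  have hNdvd : N.index ∣ B.relIndex M := by
    rw [hNindex]
    exact Subgroup.relIndex_dvd_of_le_left M hBN
  have hrN : ¬ r ∣ N.index := by
    intro hd
    have := hBind r hr (hd.trans hNdvd)
    omega
  -- a Sylow subgroup of the normalizer
  obtain ⟨P⟩ : Nonempty (Sylow r N) := inferInstance
  let R : Subgroup G := (P : Subgroup N).map N.subtype
  have hRN : R ≤ N := by
    rintro _ ⟨x, _, rfl⟩
    exact x.2
  have hRp : IsPGroup r R := P.isPGroup'.map N.subtype
  have hRind : ¬ r ∣ R.index := by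
    rw [Subgroup.index_map_subtype]
    intro hd
    rcases (Nat.Prime.dvd_mul hr).mp hd with h | h
    · exact P.not_dvd_index h
    · exact hrN h
  have hRc := comm_of_isPGroup ρ hf hr hVr R hRp
  have hRB : ∀ x ∈ B, ∀ y ∈ R, x * y = y * x := by
    intro x hx y hy
    obtain ⟨k, hk⟩ := (IsPGroup.iff_orderOf.mp hRp) ⟨y, hy⟩
    have hk' : orderOf y = r ^ k := by simpa using hk
    have hy1 : y ^ (r ^ k) = 1 := by
      rw [← hk']
      exact pow_orderOf_eq_one y
    have := commute_of_normalizes ρ hf hr hVr B hBc y hy1 (fun b hb =>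
      (Subgroup.mem_normalizer_iff.mp (hRN hy) b).mp hb) x hx
    exact this.symm
  obtain ⟨D, hBD, hRD, hDc, hDcard⟩ := exists_join_comm hBc hRc hRB
  refine ⟨D, hDc, ?_, ?_⟩
  · intro q hq hd
    rcases (Nat.Prime.dvd_mul hq).mp (hd.trans hDcard) with h | h
    · exact hBπ q hq h
    · obtain ⟨k, hk⟩ := IsPGroup.iff_card.mp hRp
      rw [hk] at h
      have := (Nat.prime_dvd_prime_iff_eq hq hr).mp (hq.dvd_of_dvd_pow h)
      omega
  · intro q hq hd
    by_contra hqq
    by_cases hqr : q = r
    · subst hqr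
      exact hRind (hd.trans (Subgroup.index_dvd_of_le hRD))
    · have h1 : q ∣ B.index := hd.trans (Subgroup.index_dvd_of_le hBD)
      rw [← Subgroup.relIndex_mul_index hBM, hMr] at h1
      rcases (Nat.Prime.dvd_mul hq).mp h1 with h | h
      · exact hqq (hBind q hq h)
      · exact hqr ((Nat.prime_dvd_prime_iff_eq hq hr).mp h)

theorem relIndex_mul_card' {B H : Subgroup G} (h : B ≤ H) :
    B.relIndex H * Nat.card B = Nat.card H := by
  have h30 := Subgroup.card_mul_index (B.subgroupOf H)
  rw [Nat.card_congr (Subgroup.subgroupOfEquivOfLe h).toEquiv] at h30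
  rw [mul_comm]
  exact h30

/-- The faithful irreducible perfect case. -/
theorem isAbHall_of_faithful_irreducible {n : ℕ} (τ : Representation ℂ G V)
    (hτ : τ.IsIrreducible) (hf : ∀ g, τ g = 1 → g = 1) (hW : finrank ℂ V ≤ n)
    (hperf : commutator G = ⊤) (IHsub : ∀ H : Subgroup G, H ≠ ⊤ → ∃ B, IsAbHallIn n H B) :
    ∃ A : Subgroup G, IsAbHall n A := by
  classical
  letI := Fintype.ofFinite G
  let π : ℕ → Prop := fun q => n + 1 < q
  -- no central element of prime order in `π`
  have hD : ∀ z : G, (∀ g, g * z = z * g) → ∀ q : ℕ, q.Prime → n + 1 < q → orderOf z = q →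
      False := by
    intro z hz q hq hqn hzq
    have hz1 : z ≠ 1 := by
      rintro rfl
      rw [orderOf_one] at hzq
      exact hq.one_lt.ne hzq
    have hτz : τ z ≠ 1 := fun h => hz1 (hf _ h)
    obtain ⟨c, hc⟩ := Cfsg.Agent.Lib.Char.Complete.schur_scalar τ hτ (τ z) (by
      intro g
      change τ z * τ g = τ g * τ z
      rw [← map_mul, ← map_mul, hz g])
    let d : G →* ℂˣ := ((LinearMap.det : End ℂ V →* ℂ).comp τ).toHomUnits
    have hdz : d z = 1 := by
      have h1 : z ∈ commutator G := by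
        rw [hperf]
        exact Subgroup.mem_top z
      exact (Abelianization.commutator_subset_ker d) h1
    have hdet : LinearMap.det (τ z) = 1 := by
      have := congrArg (Units.val) hdz
      simpa [d] using this
    rw [hc, LinearMap.det_smul, LinearMap.det_id, mul_one] at hdet
    have hpos : 0 < finrank ℂ V := by
      by_contra h0
      have h1 : finrank ℂ V = 0 := by omega
      have h2 : Subsingleton V := finrank_zero_iff.mp h1
      apply hτz
      ext v
      exact Subsingleton.elim _ _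
    have hcq : c ^ q = 1 := by
      have h1 : (τ z) ^ q = 1 := by
        rw [← map_pow, ← hzq, pow_orderOf_eq_one, map_one]
      rw [hc, smul_pow] at h1
      have h2 : Nontrivial V := finrank_pos_iff.mp hpos
      obtain ⟨v, hv⟩ := exists_ne (0 : V)
      have h3 := congrArg (fun T : End ℂ V => T v) h1
      simp only [LinearMap.smul_apply, Module.End.one_apply] at h3
      have h4 : (c ^ q - 1) • v = 0 := by
        rw [sub_smul, one_smul]
        have h5 : (LinearMap.id : End ℂ V) ^ q = 1 := one_pow q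
        rw [h5] at h3
        simpa [sub_eq_zero] using h3
      rcases smul_eq_zero.mp h4 with h6 | h6
      · exact sub_eq_zero.mp h6
      · exact absurd h6 hv
    have hc1 : c = 1 := by
      have h1 : orderOf c ∣ finrank ℂ V := orderOf_dvd_of_pow_eq_one hdet
      have h2 : orderOf c ∣ q := orderOf_dvd_of_pow_eq_one hcq
      have hcop : Nat.Coprime (finrank ℂ V) q :=
        Nat.Coprime.symm ((Nat.Prime.coprime_iff_not_dvd hq).mpr
          (Nat.not_dvd_of_pos_of_lt hpos (by omega)))
      have h3 : orderOf c ∣ 1 := by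
        rw [← hcop.gcd_eq_one]
        exact Nat.dvd_gcd h1 h2
      exact orderOf_eq_one_iff.mp (Nat.dvd_one.mp h3)
    apply hτz
    rw [hc, hc1, one_smul]
    rfl
  -- a maximal abelian `π`-subgroup
  obtain ⟨A, ⟨hAc, hAπ⟩, hAmax⟩ := Set.exists_max_image
    {B : Subgroup G | (∀ x ∈ B, ∀ y ∈ B, x * y = y * x) ∧
      ∀ q : ℕ, q.Prime → q ∣ Nat.card B → n + 1 < q} (fun B => Nat.card B) (Set.toFinite _)
    ⟨⊥, by
      refine ⟨?_, ?_⟩
      · intro x hx y hy
        rw [Subgroup.mem_bot] at hx hy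
        rw [hx, hy]
      · intro q hq hd
        rw [Subgroup.card_bot] at hd
        exact absurd (Nat.dvd_one.mp hd) hq.one_lt.ne'⟩
  have hAC : ∀ a ∈ A, A ≤ Subgroup.centralizer {a} := by
    intro a ha x hx
    rw [Subgroup.mem_centralizer_singleton_iff]
    exact hAc x hx a ha
  have K1 : ∀ a ∈ A, ∀ p : ℕ, p.Prime → orderOf a = p → ∀ s : ℕ, s.Prime →
      s ∣ A.relIndex (Subgroup.centralizer {a}) → s ≤ n + 1 := by
    intro a ha p hp hap s hs hd
    have hpA : p ∣ Nat.card A := by
      have := orderOf_dvd_natCard (⟨a, ha⟩ : A)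
      rwa [Subgroup.orderOf_mk, hap] at this
    have hπp := hAπ p hp hpA
    have hCne : Subgroup.centralizer {a} ≠ ⊤ := by
      intro hC
      refine hD a (fun g => ?_) p hp hπp hap
      have h1 : g ∈ Subgroup.centralizer {a} := by
        rw [hC]
        exact Subgroup.mem_top g
      rwa [Subgroup.mem_centralizer_singleton_iff] at h1
    obtain ⟨B, hBC, hBc, hBπ, hBind⟩ := IHsub _ hCne
    obtain ⟨h, hhC, hh⟩ := exists_conj_le_of_abelian_hall π _ _ B A rfl hBC (hAC a ha) hBc hAc
      (fun q hq hd => not_lt.mpr (hBind q hq hd)) hAπ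
    obtain ⟨U, hUB, hUcard, _⟩ := card_conj_le_of_forall_mem h hh
    have hc1 : Nat.card A ≤ Nat.card B := by
      rw [← hUcard]
      exact Subgroup.card_le_of_le hUB
    have hc2 : Nat.card B ≤ Nat.card A := hAmax B ⟨hBc, hBπ⟩
    have hc : Nat.card A = Nat.card B := le_antisymm hc1 hc2
    have h1 := relIndex_mul_card' (hAC a ha)
    have h2 := relIndex_mul_card' hBC
    rw [← h2, hc] at h1
    have h3 := Nat.eq_of_mul_eq_mul_right Nat.card_pos h1
    exact hBind s hs (h3 ▸ hd)
  -- Sylow subgroups for the primes dividing `|A|`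
  have C2 : ∀ q : ℕ, q.Prime → q ∣ Nat.card A → ¬ q ∣ A.index := by
    intro q hq hqA
    haveI : Fact q.Prime := ⟨hq⟩
    obtain ⟨a₀, ha₀⟩ := exists_prime_orderOf_dvd_card' q hqA
    have hao : orderOf (a₀ : G) = q := by simpa using ha₀
    have hπq := hAπ q hq hqA
    have hzp : IsPGroup q (Subgroup.zpowers (a₀ : G)) := by
      rw [IsPGroup.iff_card]
      exact ⟨1, by rw [Nat.card_zpowers, hao, pow_one]⟩
    obtain ⟨S, hS⟩ := hzp.exists_le_sylow
    have hSc := comm_of_isPGroup τ hf hq (by omega) (S : Subgroup G) S.isPGroup'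
    have haS : (a₀ : G) ∈ (S : Subgroup G) := hS (Subgroup.mem_zpowers _)
    have hSC : (S : Subgroup G) ≤ Subgroup.centralizer {(a₀ : G)} := by
      intro x hx
      rw [Subgroup.mem_centralizer_singleton_iff]
      exact hSc x hx _ haS
    have hSπ : ∀ q' : ℕ, q'.Prime → q' ∣ Nat.card (S : Subgroup G) → n + 1 < q' := by
      intro q' hq' hd
      obtain ⟨k, hk⟩ := IsPGroup.iff_card.mp S.isPGroup'
      rw [hk] at hd
      have := (Nat.prime_dvd_prime_iff_eq hq' hq).mp (hq'.dvd_of_dvd_pow hd)
      omega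
    obtain ⟨g, _, hg⟩ := exists_conj_le_of_abelian_hall π _ _ A (S : Subgroup G) rfl
      (hAC _ a₀.2) hSC hAc hSc
      (fun q' hq' hd => not_lt.mpr (K1 _ a₀.2 q hq hao q' hq' hd)) hSπ
    obtain ⟨U, hUA, _, hUi⟩ := card_conj_le_of_forall_mem g hg
    intro hd
    exact S.not_dvd_index (hUi ▸ hd.trans (Subgroup.index_dvd_of_le hUA))
  -- the other primes
  have C3 : ∀ s : ℕ, s.Prime → n + 1 < s → s ∣ Nat.card G → s ∣ Nat.card A := by
    intro s hs hsn hsG
    by_contra hsA
    haveI : Fact s.Prime := ⟨hs⟩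
    obtain ⟨y₀, hy₀⟩ := exists_prime_orderOf_dvd_card' s hsG
    have hAne : Nat.card A ≠ 1 := by
      intro h1
      have h2 : Nat.card (Subgroup.zpowers y₀) ≤ Nat.card A := hAmax (Subgroup.zpowers y₀) ⟨by
          intro x hx y hy
          obtain ⟨i, rfl⟩ := Subgroup.mem_zpowers_iff.mp hx
          obtain ⟨j, rfl⟩ := Subgroup.mem_zpowers_iff.mp hy
          rw [← zpow_add, ← zpow_add, add_comm], by
          intro q hq hd
          rw [Nat.card_zpowers, hy₀] at hd
          rw [(Nat.prime_dvd_prime_iff_eq hq hs).mp hd]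
          exact hsn⟩
      rw [Nat.card_zpowers, hy₀, h1] at h2
      have := hs.one_lt
      omega
    obtain ⟨p, hp, hpA⟩ := Nat.exists_prime_and_dvd hAne
    haveI : Fact p.Prime := ⟨hp⟩
    obtain ⟨x₀, hx₀⟩ := exists_prime_orderOf_dvd_card' p hpA
    have hxo : orderOf (x₀ : G) = p := by simpa using hx₀
    have hπp := hAπ p hp hpA
    have hτx : τ (x₀ : G) ≠ 1 := by
      intro h
      have h1 := hf _ h
      rw [h1, orderOf_one] at hxo
      exact hp.one_lt.ne hxo
    have hτy : τ y₀ ≠ 1 := by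
      intro h
      have h1 := hf _ h
      rw [h1, orderOf_one] at hy₀
      exact hs.one_lt.ne hy₀
    obtain ⟨k, hk1, hk2, hk3⟩ := exists_galois_conj τ hp (x := (x₀ : G))
      (by rw [← hxo]; exact pow_orderOf_eq_one _) hτx (by omega)
    obtain ⟨l, hl1, hl2, hl3⟩ := exists_galois_conj τ hs (x := y₀)
      (by rw [← hy₀]; exact pow_orderOf_eq_one _) hτy (by omega)
    refine false_of_two_galois (isIrrCharacter_of_irrep τ hτ) hk1 hl1
      (fun h => hk3 (congrFun h _)) (fun h => hl3 (congrFun h _)) ?_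
    intro g
    by_cases hgp : (orderOf g).Coprime p
    · left
      rw [hk2 g hgp]
    by_cases hgs : (orderOf g).Coprime s
    · right
      rw [hl2 g hgs]
    exfalso
    have hpo : p ∣ orderOf g := by
      by_contra h
      exact hgp (((Nat.Prime.coprime_iff_not_dvd hp).mpr h).symm)
    have hso : s ∣ orderOf g := by
      by_contra h
      exact hgs (((Nat.Prime.coprime_iff_not_dvd hs).mpr h).symm)
    have hg0 : orderOf g ≠ 0 := (orderOf_pos g).ne'
    have hxg : orderOf (g ^ (orderOf g / p)) = p := orderOf_pow_orderOf_div hg0 hpo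
    have hyg : orderOf (g ^ (orderOf g / s)) = s := orderOf_pow_orderOf_div hg0 hso
    obtain ⟨g₀, _, hg₀⟩ := exists_conj_mem_of_not_dvd_relIndex hp (H := ⊤) (B := A) le_top
      (by rw [Subgroup.relIndex_top_right]; exact C2 p hp hpA) (a := g ^ (orderOf g / p))
      (Subgroup.mem_top _) (e := 1) (by rw [hxg, pow_one])
    set x' : G := g₀⁻¹ * g ^ (orderOf g / p) * g₀ with hx'
    set y' : G := g₀⁻¹ * g ^ (orderOf g / s) * g₀ with hy'
    have hconj : ∀ w : G, g₀⁻¹ * w * g₀ = MulAut.conj g₀⁻¹ w := by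
      intro w
      simp [MulAut.conj_apply]
    have hx'o : orderOf x' = p := by
      rw [hx', hconj, MulEquiv.orderOf_eq, hxg]
    have hy'o : orderOf y' = s := by
      rw [hy', hconj, MulEquiv.orderOf_eq, hyg]
    have hcomm : y' * x' = x' * y' := by
      have h1 : g ^ (orderOf g / s) * g ^ (orderOf g / p) = g ^ (orderOf g / p) * g ^ (orderOf g / s) := by
        rw [← pow_add, ← pow_add, add_comm]
      calc y' * x' = g₀⁻¹ * (g ^ (orderOf g / s) * g ^ (orderOf g / p)) * g₀ := by
            rw [hy', hx']; group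
        _ = g₀⁻¹ * (g ^ (orderOf g / p) * g ^ (orderOf g / s)) * g₀ := by rw [h1]
        _ = x' * y' := by rw [hy', hx']; group
    have hy'C : y' ∈ Subgroup.centralizer {x'} := by
      rw [Subgroup.mem_centralizer_singleton_iff]
      exact hcomm
    have hsC : s ∣ Nat.card (Subgroup.centralizer {x'}) := by
      have := orderOf_dvd_natCard (⟨y', hy'C⟩ : Subgroup.centralizer {x'})
      rwa [Subgroup.orderOf_mk, hy'o] at this
    rw [← relIndex_mul_card' (hAC x' hg₀)] at hsC
    rcases (Nat.Prime.dvd_mul hs).mp hsC with h | h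
    · have := K1 x' hg₀ p hp hx'o s hs h
      omega
    · exact hsA h
  refine ⟨A, hAc, hAπ, ?_⟩
  intro q hq hd
  by_contra hqq
  have hqn : n + 1 < q := not_le.mp hqq
  have hqG : q ∣ Nat.card G := hd.trans (Subgroup.index_dvd_card A)
  exact C2 q hq (C3 q hq hqn hqG) hd

/-- A nontrivial representation has a nontrivial irreducible constituent. -/
theorem exists_irr_nontrivial (ρ : Representation ℂ G V) (hnt : ∃ g, ρ g ≠ 1) :
    ∃ (W : Type v) (_ : AddCommGroup W) (_ : Module ℂ W) (_ : FiniteDimensional ℂ W)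
      (τ : Representation ℂ G W), τ.IsIrreducible ∧ finrank ℂ W ≤ finrank ℂ V ∧ ∃ g, τ g ≠ 1 := by
  revert hnt
  refine rep_induction (P := fun V _ _ ρ => ∀ [FiniteDimensional ℂ V], (∃ g, ρ g ≠ 1) →
    ∃ (W : Type v) (_ : AddCommGroup W) (_ : Module ℂ W) (_ : FiniteDimensional ℂ W)
      (τ : Representation ℂ G W), τ.IsIrreducible ∧ finrank ℂ W ≤ finrank ℂ V ∧ ∃ g, τ g ≠ 1)
    ?_ ?_ ?_ V ρ
  · intro W _ _ _ τ hs _ ⟨g, hg⟩
    exfalso
    apply hg
    ext v
    exact Subsingleton.elim _ _
  · intro W _ _ _ τ hτ _ hnt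
    exact ⟨W, inferInstance, inferInstance, inferInstance, τ, hτ, le_rfl, hnt⟩
  · intro W _ _ _ τ U U' hUU' hU hU' _ ⟨g, hg⟩
    have hfin := finrank_add_of_isCompl hUU'
    by_cases h1 : ∃ g, U.toRepresentation g ≠ 1
    · obtain ⟨X, i1, i2, i3, σ, hσ, hle, hne⟩ := hU h1
      exact ⟨X, i1, i2, i3, σ, hσ, by omega, hne⟩
    by_cases h2 : ∃ g, U'.toRepresentation g ≠ 1
    · obtain ⟨X, i1, i2, i3, σ, hσ, hle, hne⟩ := hU' h2
      exact ⟨X, i1, i2, i3, σ, hσ, by omega, hne⟩
    exfalso
    push Not at h1 h2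
    apply hg
    have hcompl := isCompl_toSubmodule hUU'
    ext v
    have hv : v ∈ U.toSubmodule ⊔ U'.toSubmodule := by
      rw [hcompl.sup_eq_top]
      exact Submodule.mem_top
    obtain ⟨a, ha, b, hb, rfl⟩ := Submodule.mem_sup.mp hv
    have h3 : τ g a = a := by
      have := congrArg (fun T => (T ⟨a, ha⟩ : U.toSubmodule)) (h1 g)
      exact congrArg Subtype.val this
    have h4 : τ g b = b := by
      have := congrArg (fun T => (T ⟨b, hb⟩ : U'.toSubmodule)) (h2 g)
      exact congrArg Subtype.val this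
    rw [map_add, h3, h4]
    rfl

theorem exists_abelian_hall (n : ℕ) : ∀ (N : ℕ) (G : Type u) [Group G] [Finite G]
    (V : Type v) [AddCommGroup V] [Module ℂ V] [FiniteDimensional ℂ V]
    (ρ : Representation ℂ G V), Nat.card G = N → (∀ g, ρ g = 1 → g = 1) → finrank ℂ V ≤ n →
    ∃ A : Subgroup G, IsAbHall n A := by
  intro N
  induction N using Nat.strong_induction_on with
  | _ N ih =>
    intro G _ _ V _ _ _ ρ hN hf hV
    have IHsub : ∀ H : Subgroup G, H ≠ ⊤ → ∃ B, IsAbHallIn n H B := by
      intro H hH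
      have hlt : Nat.card H < N := by
        rw [← hN]
        have h1 := Subgroup.card_mul_index H
        have h2 : H.index ≠ 1 := fun h => hH (Subgroup.index_eq_one.mp h)
        have h3 : H.index ≠ 0 := Subgroup.index_ne_zero_of_finite
        have h4 : 0 < Nat.card H := Nat.card_pos
        rw [← h1]
        have h5 : 2 ≤ H.index := by omega
        nlinarith
      obtain ⟨C, hC⟩ := ih _ hlt H V (ρ.comp H.subtype) rfl
        (fun g hg => Subtype.ext (hf _ hg)) hV
      exact ⟨_, isAbHallIn_of_isAbHall hC⟩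
    by_cases hperf : commutator G = ⊤
    · by_cases hnt : ∃ g : G, g ≠ 1
      · obtain ⟨g, hg⟩ := hnt
        have hρnt : ∃ g, ρ g ≠ 1 := ⟨g, fun h => hg (hf _ h)⟩
        obtain ⟨W, i1, i2, i3, τ, hτ, hle, ⟨g₁, hg₁⟩⟩ := exists_irr_nontrivial ρ hρnt
        by_cases hK : τ.ker = ⊥
        · have hτf : ∀ g, τ g = 1 → g = 1 := by
            intro g hg
            have : g ∈ τ.ker := hg
            rw [hK] at this
            exact Subgroup.mem_bot.mp this
          exact isAbHall_of_faithful_irreducible τ hτ hτf (hle.trans hV) hperf IHsub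
        · have hlt : Nat.card (G ⧸ τ.ker) < N := by
            rw [← hN]
            have h1 := Subgroup.card_eq_card_quotient_mul_card_subgroup τ.ker
            have h2 : Nat.card τ.ker ≠ 1 := fun h => hK (Subgroup.eq_bot_of_card_eq _ h)
            have h3 : 0 < Nat.card τ.ker := Nat.card_pos
            have h4 : 0 < Nat.card (G ⧸ τ.ker) := Nat.card_pos
            rw [h1]
            have h5 : 2 ≤ Nat.card τ.ker := by omega
            nlinarith
          let τq : Representation ℂ (G ⧸ τ.ker) W := QuotientGroup.lift τ.ker τ (fun x hx => hx)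
          have hτq : ∀ g : G, τq (g : G ⧸ τ.ker) = τ g := fun g => rfl
          obtain ⟨Ab, hAb⟩ := ih _ hlt (G ⧸ τ.ker) W τq rfl (by
            intro q hq
            obtain ⟨g, rfl⟩ := QuotientGroup.mk_surjective q
            rw [hτq] at hq
            exact (QuotientGroup.eq_one_iff g).mpr hq) (hle.trans hV)
          obtain ⟨hAb1, hAb2, hAb3⟩ := hAb
          let A₁ : Subgroup G := Ab.comap (QuotientGroup.mk' τ.ker)
          have hA₁i : A₁.index = Ab.index :=
            Subgroup.index_comap_of_surjective Ab (QuotientGroup.mk'_surjective _)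
          by_cases hA₁ : A₁ = ⊤
          · exfalso
            have hmem : ∀ g : G, (g : G ⧸ τ.ker) ∈ Ab := by
              intro g
              have : g ∈ A₁ := by
                rw [hA₁]
                exact Subgroup.mem_top g
              exact this
            have hle2 : commutator G ≤ τ.ker := by
              rw [commutator_def, Subgroup.commutator_le]
              intro a _ b _
              rw [← QuotientGroup.eq_one_iff, commutatorElement_def]
              have := hAb1 _ (hmem a) _ (hmem b)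
              simp only [QuotientGroup.mk_mul, QuotientGroup.mk_inv]
              rw [this]
              group
            rw [hperf] at hle2
            exact hg₁ (hle2 (Subgroup.mem_top g₁))
          · obtain ⟨B, hB⟩ := IHsub A₁ hA₁
            exact ⟨B, isAbHall_of_isAbHallIn hB (by
              intro q hq hd
              rw [hA₁i] at hd
              exact hAb3 q hq hd)⟩
      · push Not at hnt
        refine ⟨⊤, ?_, ?_, ?_⟩
        · intro x _ y _
          rw [hnt x, hnt y]
        · intro q hq hd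
          exfalso
          have : Subsingleton G := ⟨fun a b => by rw [hnt a, hnt b]⟩
          simp at hd
          exact hq.one_lt.ne' hd
        · intro q hq hd
          rw [Subgroup.index_top] at hd
          exact absurd (Nat.dvd_one.mp hd) hq.one_lt.ne'
    · obtain ⟨M, r, hMn, hr, hMr⟩ := exists_normal_prime_index hperf
      have hMne : M ≠ ⊤ := by
        rintro rfl
        rw [Subgroup.index_top] at hMr
        exact hr.one_lt.ne hMr
      obtain ⟨B, hB⟩ := IHsub M hMne
      by_cases hrn : r ≤ n + 1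
      · exact ⟨B, isAbHall_of_isAbHallIn hB (by
          intro q hq hd
          rw [hMr] at hd
          rw [(Nat.prime_dvd_prime_iff_eq hq hr).mp hd]
          exact hrn)⟩
      · exact isAbHall_of_normal_prime_index ρ hf hV hMn hr hMr (not_le.mp hrn) hB

end Main

end Cfsg.Agent.Lib.LinGroup
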