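import Mathlib

/-!
# Commuting of elements close to scalars

`U : G →* 𝔸` a contractive faithful homomorphism of a finite group into a normed algebra.  Elements
`x` with `‖U x - α‖ < 1/2` for some scalar `α` commute with each other.  This is the analytic core
of Jordan's theorem in the form of Frobenius and Blichfeldt.
-/

set_option autoImplicit false
set_option linter.unusedSectionVars false

open scoped commutatorElement

namespace Cfsg.Agent.Lib.LinGroup

universe u v

section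

variable {G : Type u} [Group G] {𝔸 : Type v} [NormedRing 𝔸] [NormedAlgebra ℂ 𝔸]
  (U : G →* 𝔸) (hU : ∀ g, ‖U g‖ ≤ 1)

include hU

lemma norm_mul_U_le (a : 𝔸) (g : G) : ‖a * U g‖ ≤ ‖a‖ :=
  (norm_mul_le _ _).trans (by nlinarith [hU g, norm_nonneg a])

lemma norm_U_mul_le (a : 𝔸) (g : G) : ‖U g * a‖ ≤ ‖a‖ :=
  (norm_mul_le _ _).trans (by nlinarith [hU g, norm_nonneg a])

lemma norm_conj_sub_le (t x : G) (α : ℂ) :
    ‖U (t * x * t⁻¹) - algebraMap ℂ 𝔸 α‖ ≤ ‖U x - algebraMap ℂ 𝔸 α‖ := by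
  have h : U (t * x * t⁻¹) - algebraMap ℂ 𝔸 α = U t * ((U x - algebraMap ℂ 𝔸 α) * U t⁻¹) := by
    have h1 : U t * U t⁻¹ = 1 := by rw [← map_mul, mul_inv_cancel, map_one]
    have h2 : U t * (algebraMap ℂ 𝔸 α * U t⁻¹) = algebraMap ℂ 𝔸 α := by
      rw [← mul_assoc, ← (Algebra.commutes α (U t)), mul_assoc, h1, mul_one]
    rw [mul_sub_right_distrib, mul_sub_left_distrib, h2, map_mul, map_mul, mul_assoc]
  rw [h]
  exact (norm_U_mul_le U hU _ _).trans (norm_mul_U_le U hU _ _)

omit hU in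
lemma comm_sub_eq (a b : 𝔸) (α β : ℂ) :
    a * b - b * a =
      (a - algebraMap ℂ 𝔸 α) * (b - algebraMap ℂ 𝔸 β) -
        (b - algebraMap ℂ 𝔸 β) * (a - algebraMap ℂ 𝔸 α) := by
  have h1 : algebraMap ℂ 𝔸 α * b = b * algebraMap ℂ 𝔸 α := Algebra.commutes _ _
  have h2 : algebraMap ℂ 𝔸 β * a = a * algebraMap ℂ 𝔸 β := Algebra.commutes _ _
  have h3 : algebraMap ℂ 𝔸 α * algebraMap ℂ 𝔸 β = algebraMap ℂ 𝔸 β * algebraMap ℂ 𝔸 α := by
    exact Algebra.commutes _ _
  simp only [mul_sub, sub_mul, h1, h2, h3]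
  abel

/-- Commutator estimate with free centres. -/
lemma norm_comm_sub_one_le (x y : G) (α β : ℂ) :
    ‖U ⁅x, y⁆ - 1‖ ≤ 2 * ‖U x - algebraMap ℂ 𝔸 α‖ * ‖U y - algebraMap ℂ 𝔸 β‖ := by
  have h : U ⁅x, y⁆ - 1 = (U x * U y - U y * U x) * (U x⁻¹ * U y⁻¹) := by
    have h1 : U y * U x * (U x⁻¹ * U y⁻¹) = 1 := by
      rw [← map_mul, ← map_mul, ← map_mul, mul_assoc, mul_inv_cancel_left, mul_inv_cancel, map_one]
    rw [sub_mul, h1, commutatorElement_def, map_mul, map_mul, map_mul]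
    simp only [mul_assoc]
  rw [h, comm_sub_eq (U x) (U y) α β]
  have h2 : ‖((U x - algebraMap ℂ 𝔸 α) * (U y - algebraMap ℂ 𝔸 β) -
        (U y - algebraMap ℂ 𝔸 β) * (U x - algebraMap ℂ 𝔸 α)) * (U x⁻¹ * U y⁻¹)‖ ≤
      ‖(U x - algebraMap ℂ 𝔸 α) * (U y - algebraMap ℂ 𝔸 β) -
        (U y - algebraMap ℂ 𝔸 β) * (U x - algebraMap ℂ 𝔸 α)‖ := by
    rw [← map_mul]
    exact norm_mul_U_le U hU _ _
  refine h2.trans ((norm_sub_le _ _).trans ?_)
  have h3 := norm_mul_le (U x - algebraMap ℂ 𝔸 α) (U y - algebraMap ℂ 𝔸 β)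
  have h4 := norm_mul_le (U y - algebraMap ℂ 𝔸 β) (U x - algebraMap ℂ 𝔸 α)
  nlinarith

variable [Finite G]

/-- If all powers of `c` are at distance `< 1` from the identity then `U c = 1`. -/
lemma U_eq_one_of_forall_pow (c : G) (h : ∀ j : ℕ, ‖U (c ^ j) - 1‖ < 1) : U c = 1 := by
  classical
  have ho : 0 < orderOf c := orderOf_pos c
  set o := orderOf c with hodef
  have hoC : (o : ℂ) ≠ 0 := by exact_mod_cast ho.ne'
  set Sg : 𝔸 := ∑ j ∈ Finset.range o, U (c ^ j) with hSg
  set P : 𝔸 := (o : ℂ)⁻¹ • Sg with hP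
  have hshift : U c * Sg = Sg := by
    rw [hSg, Finset.mul_sum]
    have h1 : ∀ j, U c * U (c ^ j) = U (c ^ (j + 1)) := by
      intro j
      rw [← map_mul, pow_succ']
    simp only [h1]
    have h2 := Finset.sum_range_succ (fun j => U (c ^ j)) o
    have h3 := Finset.sum_range_succ' (fun j => U (c ^ j)) o
    have h4 : U (c ^ o) = U (c ^ 0) := by
      rw [hodef, pow_orderOf_eq_one, pow_zero]
    rw [h2] at h3
    rw [h4] at h3
    exact (add_right_cancel h3).symm
  have hcP : U c * P = P := by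
    rw [hP, mul_smul_comm, hshift]
  have hpowP : ∀ j : ℕ, U (c ^ j) * P = P := by
    intro j
    induction j with
    | zero => simp
    | succ j ih => rw [pow_succ, map_mul, mul_assoc, hcP, ih]
  have hPP : P * P = P := by
    have h1 : P * P = (o : ℂ)⁻¹ • (Sg * P) := by
      rw [hP, smul_mul_assoc]
    have h2 : Sg * P = (o : ℂ) • P := by
      rw [hSg, Finset.sum_mul]
      simp only [hpowP, Finset.sum_const, Finset.card_range]
      rw [← Nat.cast_smul_eq_nsmul ℂ]
    rw [h1, h2, smul_smul, inv_mul_cancel₀ hoC, one_smul]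
  set q : 𝔸 := 1 - P with hq
  have hqq : q * q = q := by
    rw [hq, mul_sub, sub_mul, sub_mul, mul_one, one_mul, mul_one, hPP]
    abel
  have hqnorm : ‖q‖ < 1 := by
    have hq' : q = (o : ℂ)⁻¹ • ∑ j ∈ Finset.range o, (1 - U (c ^ j)) := by
      rw [Finset.sum_sub_distrib, Finset.sum_const, Finset.card_range, smul_sub, hq, hP]
      congr 1
      rw [← Nat.cast_smul_eq_nsmul ℂ, smul_smul, inv_mul_cancel₀ hoC, one_smul]
    rw [hq', norm_smul]
    have h1 : ‖∑ j ∈ Finset.range o, (1 - U (c ^ j))‖ < o := by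
      refine (norm_sum_le _ _).trans_lt ?_
      have h2 : ∑ j ∈ Finset.range o, ‖1 - U (c ^ j)‖ < ∑ j ∈ Finset.range o, (1 : ℝ) := by
        apply Finset.sum_lt_sum_of_nonempty
        · exact Finset.nonempty_range_iff.mpr ho.ne'
        · intro j _
          rw [norm_sub_rev]
          exact h j
      simpa using h2
    have hoR : (0 : ℝ) < o := by exact_mod_cast ho
    rw [norm_inv, Complex.norm_natCast]
    rw [inv_mul_lt_iff₀ hoR]
    simpa using h1
  have hq0 : q = 0 := by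
    by_contra hne
    have hpos : 0 < ‖q‖ := norm_pos_iff.mpr hne
    have h1 : ‖q‖ ≤ ‖q‖ * ‖q‖ := by
      calc ‖q‖ = ‖q * q‖ := by rw [hqq]
        _ ≤ _ := norm_mul_le _ _
    nlinarith
  have hP1 : P = 1 := by
    have : 1 - P = 0 := hq0
    exact (sub_eq_zero.mp this).symm
  have := hcP
  rw [hP1, mul_one] at this
  exact this

/-- The set of elements of `G` close to a scalar. -/
def IsNearScalar (x : G) : Prop := ∃ α : ℂ, ‖U x - algebraMap ℂ 𝔸 α‖ < 1 / 2

omit hU in
lemma isNearScalar_iff (x : G) :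
    IsNearScalar U x ↔ ∃ α : ℂ, ‖U x - algebraMap ℂ 𝔸 α‖ < 1 / 2 := Iff.rfl

lemma IsNearScalar.conj {x : G} (hx : IsNearScalar U x) (t : G) :
    IsNearScalar U (t * x * t⁻¹) := by
  obtain ⟨α, hα⟩ := hx
  exact ⟨α, (norm_conj_sub_le U hU t x α).trans_lt hα⟩

/-- Two elements near scalars commute, provided `U` is faithful. -/
theorem commutator_eq_one_of_isNearScalar (hinj : ∀ g, U g = 1 → g = 1) {x y : G}
    (hx : IsNearScalar U x) (hy : IsNearScalar U y) : ⁅x, y⁆ = 1 := by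
  classical
  by_contra hne
  let _ : Fintype G := Fintype.ofFinite G
  let S : Finset (G × G) :=
    Finset.univ.filter fun p => IsNearScalar U p.1 ∧ IsNearScalar U p.2 ∧ ⁅p.1, p.2⁆ ≠ 1
  have hS : S.Nonempty := ⟨(x, y), by simp [S, hx, hy, hne]⟩
  obtain ⟨⟨a, b⟩, hab, hmin⟩ := Finset.exists_min_image S (fun p => ‖U ⁅p.1, p.2⁆ - 1‖) hS
  simp only [S, Finset.mem_filter, Finset.mem_univ, true_and] at hab
  obtain ⟨⟨α, hα⟩, ⟨β, hβ⟩, hc⟩ := hab
  set c := ⁅a, b⁆ with hcdef
  have hcpos : 0 < ‖U c - 1‖ := by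
    rw [norm_pos_iff]
    intro h0
    exact hc (hinj c (sub_eq_zero.mp h0))
  have hcle : ‖U c - 1‖ ≤ 2 * ‖U a - algebraMap ℂ 𝔸 α‖ * ‖U b - algebraMap ℂ 𝔸 β‖ :=
    norm_comm_sub_one_le U hU a b α β
  have hcnear : IsNearScalar U c := by
    refine ⟨1, ?_⟩
    rw [map_one]
    refine hcle.trans_lt ?_
    nlinarith [norm_nonneg (U a - algebraMap ℂ 𝔸 α), norm_nonneg (U b - algebraMap ℂ 𝔸 β)]
  have hcb : ⁅c, b⁆ = 1 := by
    by_contra h
    have hmem : (c, b) ∈ S := by
      simp only [S, Finset.mem_filter, Finset.mem_univ, true_and]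
      exact ⟨hcnear, ⟨β, hβ⟩, h⟩
    have h1 := hmin _ hmem
    have h2 := norm_comm_sub_one_le U hU c b 1 β
    rw [map_one] at h2
    simp only at h1
    nlinarith [norm_nonneg (U b - algebraMap ℂ 𝔸 β)]
  have hca : ⁅c, a⁆ = 1 := by
    by_contra h
    have hmem : (c, a) ∈ S := by
      simp only [S, Finset.mem_filter, Finset.mem_univ, true_and]
      exact ⟨hcnear, ⟨α, hα⟩, h⟩
    have h1 := hmin _ hmem
    have h2 := norm_comm_sub_one_le U hU c a 1 α
    rw [map_one] at h2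
    simp only at h1
    nlinarith [norm_nonneg (U a - algebraMap ℂ 𝔸 α)]
  have hcb' : c * b = b * c := by
    have := commutatorElement_eq_one_iff_mul_comm.mp hcb
    exact this
  have hca' : c * a = a * c := commutatorElement_eq_one_iff_mul_comm.mp hca
  have h1 : a * b * a⁻¹ = c * b := by
    rw [hcdef, commutatorElement_def]
    group
  have hpow : ∀ j : ℕ, a ^ j * b * (a ^ j)⁻¹ = c ^ j * b := by
    intro j
    induction j with
    | zero => simp
    | succ j ih =>
      have h2 : a ^ (j + 1) * b * (a ^ (j + 1))⁻¹ = a * (a ^ j * b * (a ^ j)⁻¹) * a⁻¹ := by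
        rw [pow_succ']
        group
      have h3 : Commute a (c ^ j) := (Commute.pow_right (show Commute a c from hca'.symm) j)
      have h4 : a * (c ^ j * b) * a⁻¹ = c ^ j * (a * b * a⁻¹) := by
        rw [← mul_assoc a, h3.eq]
        group
      rw [h2, ih, h4, h1, pow_succ, mul_assoc]
  have hnorm : ∀ j : ℕ, ‖U (c ^ j) - 1‖ < 1 := by
    intro j
    have h2 : ‖U (c ^ j * b) - algebraMap ℂ 𝔸 β‖ < 1 / 2 := by
      rw [← hpow j]
      exact (norm_conj_sub_le U hU (a ^ j) b β).trans_lt hβ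
    have h3 : U (c ^ j) - 1 =
        ((U (c ^ j * b) - algebraMap ℂ 𝔸 β) - (U b - algebraMap ℂ 𝔸 β)) * U b⁻¹ := by
      have h4 : U b * U b⁻¹ = 1 := by rw [← map_mul, mul_inv_cancel, map_one]
      rw [sub_sub_sub_cancel_right, sub_mul, h4, map_mul, mul_assoc, h4, mul_one]
    rw [h3]
    refine (norm_mul_U_le U hU _ _).trans_lt ((norm_sub_le _ _).trans_lt ?_)
    linarith
  exact hc (hinj c (U_eq_one_of_forall_pow U hU c hnorm))

/-- The subgroup generated by the elements near scalars. -/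
def nearScalarSubgroup : Subgroup G := Subgroup.closure {x | IsNearScalar U x}

lemma nearScalarSubgroup_normal : (nearScalarSubgroup U).Normal := by
  constructor
  intro n hn t
  induction hn using Subgroup.closure_induction with
  | mem x hx => exact Subgroup.subset_closure (IsNearScalar.conj U hU hx t)
  | one => simpa using (nearScalarSubgroup U).one_mem
  | mul x y _ _ hx hy =>
    have h : t * (x * y) * t⁻¹ = (t * x * t⁻¹) * (t * y * t⁻¹) := by group
    rw [h]
    exact (nearScalarSubgroup U).mul_mem hx hy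
  | inv x _ hx =>
    have h : t * x⁻¹ * t⁻¹ = (t * x * t⁻¹)⁻¹ := by group
    rw [h]
    exact (nearScalarSubgroup U).inv_mem hx

omit [Finite G] hU in
lemma mem_nearScalarSubgroup_of {x : G} (hx : IsNearScalar U x) : x ∈ nearScalarSubgroup U :=
  Subgroup.subset_closure hx

lemma nearScalarSubgroup_comm (hinj : ∀ g, U g = 1 → g = 1) :
    ∀ x ∈ nearScalarSubgroup U, ∀ y ∈ nearScalarSubgroup U, x * y = y * x := by
  intro x hx y hy
  have hcomm : ∀ a ∈ ({x | IsNearScalar U x} : Set G), ∀ b ∈ ({x | IsNearScalar U x} : Set G),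
      a * b = b * a := by
    intro a ha b hb
    exact commutatorElement_eq_one_iff_mul_comm.mp
      (commutator_eq_one_of_isNearScalar U hU hinj ha hb)
  have h1 := Subgroup.isMulCommutative_closure hcomm
  have h2 := h1.is_comm.comm (⟨x, hx⟩ : Subgroup.closure {x | IsNearScalar U x}) ⟨y, hy⟩
  exact congrArg Subtype.val h2

end

end Cfsg.Agent.Lib.LinGroup
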