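import Mathlib
import Cfsg.Agent.Lib.LinGroup.Arcs

/-!
# Unitarising a representation; norm of a normal matrix from its spectrum
-/

set_option autoImplicit false
set_option linter.unusedSectionVars false

namespace Cfsg.Agent.Lib.LinGroup

open Matrix
open scoped Matrix.Norms.L2Operator MatrixOrder ComplexOrder

universe u

abbrev Mat (n : ℕ) := Matrix (Fin n) (Fin n) ℂ

lemma exists_conjTranspose_mul_self {n : ℕ} {A : Mat n} (hA : A.PosSemidef) :
    ∃ B : Mat n, A = Bᴴ * B := by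
  have h0 : 0 ≤ A := hA.nonneg
  obtain ⟨B, hB⟩ := CStarAlgebra.nonneg_iff_eq_star_mul_self.mp h0
  exact ⟨B, hB⟩

variable {G : Type u} [Group G] [Finite G]

theorem exists_unitary {n : ℕ} (ρ : Representation ℂ G (Fin n → ℂ)) :
    ∃ (U : G →* Mat n) (S : (Mat n)ˣ), (∀ g, star (U g) * U g = 1 ∧ U g * star (U g) = 1) ∧
      ∀ g, U g = (S : Mat n) * LinearMap.toMatrix' (ρ g) * ((S⁻¹ : (Mat n)ˣ) : Mat n) := by
  classical
  let _ : Fintype G := Fintype.ofFinite G
  let M : G → Mat n := fun g => LinearMap.toMatrix' (ρ g)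
  have hMmul : ∀ g h, M (g * h) = M g * M h := by
    intro g h
    simp only [M, map_mul]
    exact LinearMap.toMatrix'_comp _ _
  have hM1 : M 1 = 1 := by
    simp only [M, map_one]
    exact LinearMap.toMatrix'_one
  let H : Mat n := ∑ g : G, (M g)ᴴ * M g
  have hHinv : ∀ t, (M t)ᴴ * H * M t = H := by
    intro t
    simp only [H, Finset.mul_sum, Finset.sum_mul]
    refine (Fintype.sum_equiv (Equiv.mulRight t) _ _ ?_)
    intro g
    simp only [Equiv.coe_mulRight, hMmul, conjTranspose_mul]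
    simp only [mul_assoc]
  have hHpos : H.PosDef := by
    have h1 : H = (1 : Mat n) + ∑ g ∈ Finset.univ.erase (1 : G), (M g)ᴴ * M g := by
      simp only [H]
      rw [← Finset.add_sum_erase Finset.univ _ (Finset.mem_univ (1 : G)), hM1]
      simp
    rw [h1]
    refine (Matrix.PosDef.one).add_posSemidef ?_
    exact Matrix.posSemidef_sum _ fun g _ => Matrix.posSemidef_conjTranspose_mul_self _
  obtain ⟨B, hB⟩ := exists_conjTranspose_mul_self hHpos.posSemidef
  have hBunit : IsUnit B := by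
    have h1 : IsUnit (Bᴴ * B) := hB ▸ hHpos.isUnit
    have hdet : IsUnit (Bᴴ * B).det := (Matrix.isUnit_iff_isUnit_det _).mp h1
    rw [Matrix.det_mul] at hdet
    exact (Matrix.isUnit_iff_isUnit_det _).mpr (isUnit_of_mul_isUnit_right hdet)
  obtain ⟨S, rfl⟩ := hBunit
  let V : G → Mat n := fun g => (S : Mat n) * M g * ((S⁻¹ : (Mat n)ˣ) : Mat n)
  have hSS : ((S⁻¹ : (Mat n)ˣ) : Mat n) * (S : Mat n) = 1 := S.inv_mul
  have hSS' : (S : Mat n) * ((S⁻¹ : (Mat n)ˣ) : Mat n) = 1 := S.mul_inv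
  let U : G →* Mat n :=
    { toFun := V
      map_one' := by simp [V, hM1]
      map_mul' := by
        intro g h
        simp only [V, hMmul]
        calc (S : Mat n) * (M g * M h) * ((S⁻¹ : (Mat n)ˣ) : Mat n)
            = (S : Mat n) * M g * (((S⁻¹ : (Mat n)ˣ) : Mat n) * (S : Mat n)) * M h *
                ((S⁻¹ : (Mat n)ˣ) : Mat n) := by rw [hSS]; simp only [mul_one, mul_assoc]
          _ = _ := by simp only [mul_assoc] }
  refine ⟨U, S, ?_, fun g => rfl⟩
  intro g
  have h1 : star (U g) * U g = 1 := by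
    show star (V g) * V g = 1
    simp only [V, star_eq_conjTranspose, conjTranspose_mul]
    have hS' : (((S⁻¹ : (Mat n)ˣ) : Mat n))ᴴ * (S : Mat n)ᴴ = 1 := by
      rw [← conjTranspose_mul, hSS', conjTranspose_one]
    calc ((S⁻¹ : (Mat n)ˣ) : Mat n)ᴴ * ((M g)ᴴ * (S : Mat n)ᴴ) *
          ((S : Mat n) * M g * ((S⁻¹ : (Mat n)ˣ) : Mat n))
        = ((S⁻¹ : (Mat n)ˣ) : Mat n)ᴴ * ((M g)ᴴ * ((S : Mat n)ᴴ * (S : Mat n)) * M g) *
            ((S⁻¹ : (Mat n)ˣ) : Mat n) := by simp only [mul_assoc]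
      _ = ((S⁻¹ : (Mat n)ˣ) : Mat n)ᴴ * ((S : Mat n)ᴴ * (S : Mat n)) *
            ((S⁻¹ : (Mat n)ˣ) : Mat n) := by
          rw [← hB, hHinv g]
      _ = (((S⁻¹ : (Mat n)ˣ) : Mat n)ᴴ * (S : Mat n)ᴴ) * ((S : Mat n) *
            ((S⁻¹ : (Mat n)ˣ) : Mat n)) := by simp only [mul_assoc]
      _ = 1 := by rw [hS', hSS', one_mul]
  exact ⟨h1, mul_eq_one_comm.mp h1⟩

/-- Contractivity of a unitary matrix. -/
lemma norm_le_one_of_unitary {n : ℕ} {T : Mat n} (h : star T * T = 1) : ‖T‖ ≤ 1 := by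
  have h1 : ‖T‖ * ‖T‖ = ‖(1 : Mat n)‖ := by
    rw [← h, CStarRing.norm_star_mul_self]
  have h2 : ‖(1 : Mat n)‖ ≤ 1 := by
    rcases isEmpty_or_nonempty (Fin n) with hn | hn
    · have : (1 : Mat n) = 0 := Subsingleton.elim _ _
      rw [this, norm_zero]
      exact zero_le_one
    · have := CStarRing.norm_one (E := Mat n)
      exact this.le
  nlinarith [norm_nonneg T]

/-- The norm of `T - α`, for a unitary matrix `T`, is controlled by the spectrum of `T`. -/
theorem norm_sub_lt_of_spectrum {n : ℕ} {T : Mat n} (h1 : star T * T = 1) (h2 : T * star T = 1)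
    (α : ℂ) {r : ℝ} (hr : 0 < r) (hsp : ∀ μ ∈ spectrum ℂ T, ‖μ - α‖ < r) :
    ‖T - algebraMap ℂ (Mat n) α‖ < r := by
  classical
  rcases isEmpty_or_nonempty (Fin n) with hn | hn
  · have : T - algebraMap ℂ (Mat n) α = 0 := Subsingleton.elim _ _
    rw [this, norm_zero]
    exact hr
  set a : Mat n := T - algebraMap ℂ (Mat n) α with ha
  have hnormal : IsStarNormal a := by
    constructor
    show star a * a = a * star a
    have hcomm : algebraMap ℂ (Mat n) α * star T = star T * algebraMap ℂ (Mat n) α :=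
      Algebra.commutes _ _
    have hstar : star (algebraMap ℂ (Mat n) α) = algebraMap ℂ (Mat n) (star α) := by
      rw [algebraMap_star_comm]
    have hcomm2 : star (algebraMap ℂ (Mat n) α) * T = T * star (algebraMap ℂ (Mat n) α) := by
      rw [hstar]
      exact Algebra.commutes _ _
    have hcomm3 : star (algebraMap ℂ (Mat n) α) * algebraMap ℂ (Mat n) α =
        algebraMap ℂ (Mat n) α * star (algebraMap ℂ (Mat n) α) := by
      rw [hstar, ← map_mul, ← map_mul, mul_comm]
    simp only [ha, star_sub, sub_mul, mul_sub, h1, h2, hcomm, hcomm2, hcomm3]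
    abel
  have hne : (spectrum ℂ a).Nonempty := spectrum.nonempty a
  obtain ⟨k, hk, hkeq⟩ := spectrum.exists_nnnorm_eq_spectralRadius_of_nonempty hne
  have hrad := IsStarNormal.spectralRadius_eq_nnnorm a
  rw [← hkeq] at hrad
  have hnorm : ‖k‖₊ = ‖a‖₊ := by exact_mod_cast hrad
  have hnorm' : ‖k‖ = ‖a‖ := congrArg NNReal.toReal hnorm
  rw [← hnorm']
  have hmem : k + α ∈ spectrum ℂ T := by
    rw [spectrum.add_mem_iff]
    have : -(algebraMap ℂ (Mat n)) α + T = a := by rw [ha]; abel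
    rw [this]
    exact hk
  have := hsp _ hmem
  simpa using this

end Cfsg.Agent.Lib.LinGroup
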