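import Mathlib
import Cfsg.Agent.Lib.LinGroup.Unitary
import Cfsg.Agent.Lib.LinGroup.Joint
import Cfsg.Agent.Lib.BlockT.CharSum

/-!
# Jordan's theorem: every abelian subgroup is almost inside a normal abelian subgroup
-/

set_option autoImplicit false
set_option linter.unusedSectionVars false

namespace Cfsg.Agent.Lib.LinGroup

open Module
open scoped Matrix.Norms.L2Operator Real

universe u

/-- Points of the circle at angle `< π/6` from `1` lie within `1/2` of `√3/2`. -/
lemma norm_exp_sub_lt {t : ℝ} (ht : |t| < π / 6) :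
    ‖Complex.exp (t * Complex.I) - ((√3 / 2 : ℝ) : ℂ)‖ < 1 / 2 := by
  have h3 : (√3 : ℝ) ^ 2 = 3 := Real.sq_sqrt (by norm_num)
  have h3pos : (0 : ℝ) < √3 := Real.sqrt_pos.mpr (by norm_num)
  have hcos : √3 / 2 < Real.cos t := by
    rw [← Real.cos_pi_div_six, ← Real.cos_abs t]
    exact Real.cos_lt_cos_of_nonneg_of_le_pi (abs_nonneg t) (by linarith [Real.pi_pos]) ht
  have hsq : ‖Complex.exp (t * Complex.I) - ((√3 / 2 : ℝ) : ℂ)‖ ^ 2 < (1 / 2) ^ 2 := by
    rw [← Complex.normSq_eq_norm_sq, Complex.normSq_apply]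
    have hre : (Complex.exp (t * Complex.I) - ((√3 / 2 : ℝ) : ℂ)).re = Real.cos t - √3 / 2 := by
      simp [Complex.exp_ofReal_mul_I_re]
    have him : (Complex.exp (t * Complex.I) - ((√3 / 2 : ℝ) : ℂ)).im = Real.sin t := by
      simp [Complex.exp_ofReal_mul_I_im]
    rw [hre, him]
    have := Real.sin_sq_add_cos_sq t
    nlinarith
  exact lt_of_pow_lt_pow_left₀ 2 (by norm_num) hsq

/-- One of twelve arcs of the circle. -/
noncomputable def cell (z : ℂ) : Fin 12 :=
  ⟨(⌈Complex.arg z / (π / 6)⌉ + 5).toNat % 12, Nat.mod_lt _ (by norm_num)⟩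

lemma cell_val_bounds (z : ℂ) :
    0 ≤ ⌈Complex.arg z / (π / 6)⌉ + 5 ∧ ⌈Complex.arg z / (π / 6)⌉ + 5 < 12 := by
  have hpi : 0 < π / 6 := by positivity
  have h1 : -6 < Complex.arg z / (π / 6) := by
    rw [lt_div_iff₀ hpi]
    have := Complex.neg_pi_lt_arg z
    linarith
  have h2 : Complex.arg z / (π / 6) ≤ 6 := by
    rw [div_le_iff₀ hpi]
    have := Complex.arg_le_pi z
    linarith
  constructor
  · have : (-6 : ℤ) < ⌈Complex.arg z / (π / 6)⌉ := by
      rw [Int.lt_ceil]
      simpa using h1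
    omega
  · have : ⌈Complex.arg z / (π / 6)⌉ ≤ (6 : ℤ) := by
      rw [Int.ceil_le]
      simpa using h2
    omega

lemma abs_arg_sub_lt_of_cell_eq {z w : ℂ} (h : cell z = cell w) :
    |Complex.arg w - Complex.arg z| < π / 6 := by
  have hpi : 0 < π / 6 := by positivity
  have hval : (⌈Complex.arg z / (π / 6)⌉ + 5).toNat % 12 = (⌈Complex.arg w / (π / 6)⌉ + 5).toNat % 12 :=
    congrArg Fin.val h
  obtain ⟨h1, h2⟩ := cell_val_bounds z
  obtain ⟨h3, h4⟩ := cell_val_bounds w
  have hc : ⌈Complex.arg z / (π / 6)⌉ = ⌈Complex.arg w / (π / 6)⌉ := by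
    rw [Nat.mod_eq_of_lt (by omega), Nat.mod_eq_of_lt (by omega)] at hval
    omega
  have a1 := Int.ceil_lt_add_one (Complex.arg z / (π / 6))
  have a2 := Int.le_ceil (Complex.arg z / (π / 6))
  have a3 := Int.ceil_lt_add_one (Complex.arg w / (π / 6))
  have a4 := Int.le_ceil (Complex.arg w / (π / 6))
  rw [hc] at a1 a2
  have hdiv : |Complex.arg w / (π / 6) - Complex.arg z / (π / 6)| < 1 := by
    rw [abs_lt]
    constructor <;> linarith
  rw [← sub_div, abs_div, abs_of_pos hpi, div_lt_one hpi] at hdiv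
  exact hdiv

/-- Two points of the unit circle in the same cell. -/
lemma norm_div_sub_lt_of_cell_eq {z w : ℂ} (hz : ‖z‖ = 1) (hw : ‖w‖ = 1) (h : cell z = cell w) :
    ‖z⁻¹ * w - ((√3 / 2 : ℝ) : ℂ)‖ < 1 / 2 := by
  have h1 := abs_arg_sub_lt_of_cell_eq h
  have hz' : z = Complex.exp (Complex.arg z * Complex.I) := by
    have := Complex.norm_mul_exp_arg_mul_I z
    rw [hz] at this
    simpa using this.symm
  have hw' : w = Complex.exp (Complex.arg w * Complex.I) := by
    have := Complex.norm_mul_exp_arg_mul_I w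
    rw [hw] at this
    simpa using this.symm
  have h2 : z⁻¹ * w = Complex.exp (((Complex.arg w - Complex.arg z : ℝ) : ℂ) * Complex.I) := by
    conv_lhs => rw [hz', hw']
    rw [← Complex.exp_neg, ← Complex.exp_add]
    congr 1
    push_cast
    ring
  rw [h2]
  exact norm_exp_sub_lt h1

variable {G : Type u} [Group G] [Finite G]

/-- Jordan's theorem in Frobenius' form. -/
theorem exists_normal_abelian_index {n : ℕ} (ρ : Representation ℂ G (Fin n → ℂ))
    (hf : ∀ g, ρ g = 1 → g = 1) :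
    ∃ A : Subgroup G, A.Normal ∧ (∀ x ∈ A, ∀ y ∈ A, x * y = y * x) ∧
      ∀ H : Subgroup G, (∀ x ∈ H, ∀ y ∈ H, x * y = y * x) → (A.subgroupOf H).index ≤ 12 ^ n := by
  classical
  obtain ⟨U, S, hU, hUS⟩ := exists_unitary ρ
  have hcontr : ∀ g, ‖U g‖ ≤ 1 := fun g => norm_le_one_of_unitary (hU g).1
  have hinj : ∀ g, U g = 1 → g = 1 := by
    intro g hg
    apply hf
    have h1 : LinearMap.toMatrix' (ρ g) = 1 := by
      have h2 := hUS g
      rw [hg] at h2
      have h3 : ((S⁻¹ : (Mat n)ˣ) : Mat n) * (1 : Mat n) * (S : Mat n) =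
          LinearMap.toMatrix' (ρ g) := by
        rw [h2]
        simp only [mul_assoc, Units.inv_mul, mul_one]
        rw [← mul_assoc, Units.inv_mul, one_mul]
      rw [← h3]
      simp
    have h4 : LinearMap.toMatrix' (ρ g) = LinearMap.toMatrix' (LinearMap.id : (Fin n → ℂ) →ₗ[ℂ] _) := by
      rw [h1, LinearMap.toMatrix'_id]
    exact LinearMap.toMatrix'.injective h4
  have hspec : ∀ g, spectrum ℂ (U g) = spectrum ℂ (ρ g) := by
    intro g
    rw [hUS g, spectrum.units_conjugate]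
    rw [← Matrix.spectrum_toLin', Matrix.toLin'_toMatrix']
  refine ⟨nearScalarSubgroup U, nearScalarSubgroup_normal U hcontr,
    nearScalarSubgroup_comm U hcontr hinj, ?_⟩
  intro H hH
  have hK : ∀ a b : H, a * b = b * a := by
    intro a b
    exact Subtype.ext (hH a a.2 b b.2)
  let σ : Representation ℂ H (Fin n → ℂ) := ρ.comp H.subtype
  obtain ⟨b, μ, hμ⟩ := exists_joint_eigenbasis_of_comm hK (Fin n → ℂ) σ
  have hb0 : ∀ i, b i ≠ 0 := fun i => b.ne_zero i
  have hμmul : ∀ i a a', μ i (a * a') = μ i a * μ i a' := by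
    intro i a a'
    have h1 : σ (a * a') (b i) = (μ i a * μ i a') • b i := by
      rw [map_mul, Module.End.mul_apply, hμ, map_smul, hμ, smul_smul, mul_comm]
    rw [hμ] at h1
    exact smul_left_injective ℂ (hb0 i) h1
  have hμone : ∀ i, μ i 1 = 1 := by
    intro i
    have h1 := hμ i 1
    rw [map_one, Module.End.one_apply] at h1
    have h2 : (1 : ℂ) • b i = μ i 1 • b i := by rw [one_smul]; exact h1
    exact (smul_left_injective ℂ (hb0 i) h2).symm
  have hμpow : ∀ i a (k : ℕ), μ i (a ^ k) = μ i a ^ k := by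
    intro i a k
    induction k with
    | zero => simp [hμone]
    | succ k ih => rw [pow_succ, hμmul, ih, pow_succ]
  have hμnorm : ∀ i a, ‖μ i a‖ = 1 := by
    intro i a
    have h1 : μ i a ^ (orderOf a) = 1 := by
      rw [← hμpow, pow_orderOf_eq_one, hμone]
    exact Complex.norm_eq_one_of_pow_eq_one h1 (orderOf_pos a).ne'
  have hμinv : ∀ i a, μ i a⁻¹ = (μ i a)⁻¹ := by
    intro i a
    have h1 : μ i a⁻¹ * μ i a = 1 := by rw [← hμmul, inv_mul_cancel, hμone]
    exact eq_inv_of_mul_eq_one_left h1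
  let F : H → Fin (finrank ℂ (Fin n → ℂ)) → Fin 12 := fun h i => cell (μ i h)
  have hkey : ∀ h h' : H, F h = F h' → ((h⁻¹ * h' : H) : G) ∈ nearScalarSubgroup U := by
    intro h h' hF
    apply mem_nearScalarSubgroup_of
    refine ⟨((√3 / 2 : ℝ) : ℂ), ?_⟩
    refine norm_sub_lt_of_spectrum (hU _).1 (hU _).2 _ (by norm_num) ?_
    intro c hc
    rw [hspec] at hc
    obtain ⟨i, hi⟩ := exists_eq_of_mem_spectrum (ρ ((h⁻¹ * h' : H) : G)) b
      (fun i => μ i (h⁻¹ * h')) (fun i => hμ i (h⁻¹ * h')) hc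
    rw [← hi, hμmul, hμinv]
    exact norm_div_sub_lt_of_cell_eq (hμnorm i h) (hμnorm i h') (congrFun hF i)
  have hle : Nat.card (H ⧸ (nearScalarSubgroup U).subgroupOf H) ≤ Nat.card (Fin (finrank ℂ (Fin n → ℂ)) → Fin 12) := by
    refine Nat.card_le_card_of_injective (fun q => F q.out) ?_
    intro q q' hqq
    have h1 := hkey _ _ hqq
    have h2 : (q.out)⁻¹ * q'.out ∈ (nearScalarSubgroup U).subgroupOf H := h1
    have h3 : (q.out : H ⧸ (nearScalarSubgroup U).subgroupOf H) = q'.out :=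
      QuotientGroup.eq.mpr h2
    rwa [QuotientGroup.out_eq', QuotientGroup.out_eq'] at h3
  have hcard : Nat.card (Fin (finrank ℂ (Fin n → ℂ)) → Fin 12) = 12 ^ n := by
    simp
  rw [Subgroup.index]
  rw [hcard] at hle
  exact hle

/-- From a character to a faithful representation. -/
theorem exists_rep_of_character {χ : G → ℂ} (hχ : Cfsg.IsCharacter G χ)
    (hfaith : ∀ g : G, χ g = χ 1 → g = 1) {n : ℕ} (hn : Cfsg.charDegree χ = n) :
    ∃ ρ : Representation ℂ G (Fin n → ℂ), (∀ g, ρ g = 1 → g = 1) ∧ ρ.character = χ := by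
  obtain ⟨m, ρ, rfl⟩ := hχ
  rw [Cfsg.Agent.Lib.BlockT.CharSum.charDegree_character] at hn
  subst hn
  refine ⟨ρ, ?_, rfl⟩
  intro g hg
  apply hfaith
  simp [Representation.character, hg]

end Cfsg.Agent.Lib.LinGroup
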